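import Cfsg.Agent.Lib.Invol.BlockColumns
import Cfsg.Agent.Lib.Blk83.PairCount
import Cfsg.Agent.Lib.Blocks.Section

/-!
# Columns of the principal block at `p`-elements
-/

set_option autoImplicit false
set_option linter.style.haveILetI false
open Cfsg
open scoped ComplexConjugate

universe u

namespace CfsgLib.ExtClosed

open CfsgLib.Invol

variable {G : Type u} [Group G] [Finite G] {p : ℕ} [Fact p.Prime] {M : Ideal Cfsg.AlgInt}

/-- The column of a nontrivial `p`-element is orthogonal to the column of a `p`-regular element. -/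
theorem col_orth_regular (hM : Cfsg.IsPModular p M) {h y : G} (hh : ∃ k : ℕ, orderOf h = p ^ k)
    (hh1 : h ≠ 1) (hy : ¬ p ∣ orderOf y) :
    ∑ χ ∈ BlockCol.pBlock M G, (χ : G → ℂ) h * (χ : G → ℂ) y = 0 := by
  haveI := hM.2.1
  obtain ⟨k, hk⟩ := hh
  have h1 : Cfsg.IsPPart p h h := ⟨1, mul_one h, Commute.one_right h, ⟨k, hk⟩, by
    rw [orderOf_one]; exact (Fact.out : p.Prime).not_dvd_one⟩
  have h2 : Cfsg.IsPPart p y⁻¹ 1 :=
    CfsgLib.Blocks.isPPart_one_of_regular (by rwa [orderOf_inv])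
  have h3 : ¬ IsConj h (1 : G) := fun hc => hh1 (isConj_one_right.1 hc.symm)
  have := CfsgLib.Blocks.block_orthogonality_section (M := M) hM.1 hM.2.2
    CfsgLib.Blocks.isPBlock_principalBlock h1 h2 h3
  rw [inv_inv, BlockCol.finsum_principal] at this
  exact this

/-- The columns of nonconjugate `p`-elements are orthogonal. -/
theorem col_orth_conj (hM : Cfsg.IsPModular p M) {a b : G} (ha : ∃ k : ℕ, orderOf a = p ^ k)
    (hb : ∃ k : ℕ, orderOf b = p ^ k) (hab : ¬ IsConj a b) :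
    ∑ χ ∈ BlockCol.pBlock M G, (χ : G → ℂ) a * conj ((χ : G → ℂ) b) = 0 := by
  haveI := hM.2.1
  have hpp : ∀ {c : G}, (∃ k : ℕ, orderOf c = p ^ k) → Cfsg.IsPPart p c c := fun hc =>
    ⟨1, mul_one _, Commute.one_right _, hc, by
      rw [orderOf_one]; exact (Fact.out : p.Prime).not_dvd_one⟩
  have := CfsgLib.Blocks.block_orthogonality_section (M := M) hM.1 hM.2.2
    CfsgLib.Blocks.isPBlock_principalBlock (hpp ha) (hpp hb) hab
  rw [BlockCol.finsum_principal] at this
  rw [← this]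
  exact Finset.sum_congr rfl fun χ _ => by rw [CfsgLib.Char.IsIrrCharacter.apply_inv χ.2]

/-- A column norm of the principal block is at least the order of every `p`-subgroup of the
centralizer. -/
theorem exists_col_norm (hM : Cfsg.IsPModular p M) {x : G} (hx : ∃ k : ℕ, orderOf x = p ^ k) :
    ∃ n : ℕ,
      ∑ χ ∈ BlockCol.pBlock M G, (χ : G → ℂ) x * conj ((χ : G → ℂ) x) = (n : ℂ) ∧
      ∀ R : Subgroup G, IsPGroup p R → R ≤ Subgroup.centralizer ({x} : Set G) →
        Nat.card R ≤ n := by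
  classical
  haveI := hM.2.1
  cases nonempty_fintype G
  have hp : p.Prime := Fact.out
  set C := Subgroup.centralizer ({x} : Set G)
  set b := BlockCol.pBlock M C with hb
  have h1 : ¬ p ∣ orderOf (1 : C) := by rw [orderOf_one]; exact hp.not_dvd_one
  have hsec : ∑ χ ∈ BlockCol.pBlock M G, (χ : G → ℂ) x * conj ((χ : G → ℂ) x) =
      ∑ ψ ∈ b, (ψ : C → ℂ) 1 * conj ((ψ : C → ℂ) 1) := by
    have h := BlockCol.sum_section hM (x := x) hx 1 1 h1 h1
    simpa using h
  choose d hd using fun ψ : Cfsg.IrrCharacter C =>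
    (⟨Cfsg.charDegree (ψ : C → ℂ), CfsgLib.Blk83.one_eq ψ⟩ : ∃ d : ℕ, (ψ : C → ℂ) 1 = (d : ℂ))
  set n := ∑ ψ ∈ b, d ψ * d ψ with hn
  have hsum : ∑ ψ ∈ b, (ψ : C → ℂ) 1 * conj ((ψ : C → ℂ) 1) = (n : ℂ) := by
    rw [hn, Nat.cast_sum]
    exact Finset.sum_congr rfl fun ψ _ => by rw [hd, map_natCast, Nat.cast_mul]
  have hpos : 0 < n := by
    refine Finset.sum_pos' (fun _ _ => Nat.zero_le _)
      ⟨CfsgLib.Char.principalIrr, BlockCol.mem_pBlock.2
        CfsgLib.Blocks.principalIrr_mem_principalBlock, ?_⟩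
    have := hd (CfsgLib.Char.principalIrr : Cfsg.IrrCharacter C)
    rw [CfsgLib.Char.principalIrr_apply] at this
    have hd1 : d (CfsgLib.Char.principalIrr : Cfsg.IrrCharacter C) = 1 := by
      exact_mod_cast this.symm
    rw [hd1]; norm_num
  refine ⟨n, by rw [hsec, hsum], fun R hR hRC => Nat.le_of_dvd hpos ?_⟩
  choose m hm using fun ψ : Cfsg.IrrCharacter C =>
    CfsgLib.Blk83.exists_nat_sum_eq ψ (R.subgroupOf C)
  refine ⟨∑ ψ ∈ b, d ψ * m ψ, ?_⟩
  have h : ∑ y : R.subgroupOf C, ∑ ψ ∈ b, (ψ : C → ℂ) y * conj ((ψ : C → ℂ) 1) =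
      ∑ ψ ∈ b, (ψ : C → ℂ) 1 * conj ((ψ : C → ℂ) 1) := by
    rw [Finset.sum_eq_single (1 : R.subgroupOf C) (fun y _ hy => ?_)
      (fun h => absurd (Finset.mem_univ _) h), OneMemClass.coe_one]
    have ho : p ∣ orderOf ((y : C)) := by
      obtain ⟨k, hk⟩ := IsPGroup.iff_orderOf.1
        (hR.comap_of_injective C.subtype Subtype.val_injective) y
      have hk' : orderOf y = p ^ k := hk
      rw [Subgroup.orderOf_coe, hk']
      refine dvd_pow_self p fun h => hy ?_
      rw [h, pow_zero] at hk'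
      exact orderOf_eq_one_iff.1 hk'
    have horth := CfsgLib.BlockReg.block_orth_swap hM CfsgLib.Blocks.isPBlock_principalBlock
      (1 : C) (y : C) h1 ho
    rwa [BlockCol.finsum_principal] at horth
  rw [hsum, Finset.sum_comm] at h
  have h' : (n : ℂ) = ((Nat.card R * ∑ ψ ∈ b, d ψ * m ψ : ℕ) : ℂ) := by
    rw [← h, Nat.cast_mul, Nat.cast_sum, Finset.mul_sum]
    refine Finset.sum_congr rfl fun ψ _ => ?_
    rw [← Finset.sum_mul, hm ψ, hd, map_natCast,
      Nat.card_congr (Subgroup.subgroupOfEquivOfLe hRC).toEquiv, Nat.cast_mul]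
    ring
  exact_mod_cast h'

end CfsgLib.ExtClosed
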