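import Cfsg.Agent.Lib.Char.DefectZero
import Cfsg.Agent.Lib.Char.Linear
import Mathlib.Algebra.BigOperators.Fin
import Mathlib.Analysis.Complex.Basic

/-!
# An irreducible character is a positive definite function

`(χ(1)/|G|) ∑_t conj (χ (t x)) χ (t y) = χ (x⁻¹ y)`, so the form `χ (x⁻¹ y)` is positive
semidefinite.  Applied to the differences of the sums `h + k h k⁻¹` it bounds from below the sum
of `χ` over commutators with `k`.
-/

set_option autoImplicit false
set_option linter.style.haveILetI false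
open Cfsg
open scoped ComplexConjugate

universe u

namespace CfsgLib.ExtClosed

variable {G : Type u} [Group G] [Fintype G]

theorem sum_conj_translate (χ : IrrCharacter G) (x y : G) :
    (∑ t : G, conj ((χ : G → ℂ) (t * x)) * (χ : G → ℂ) (t * y)) * (χ : G → ℂ) 1 =
      (Nat.card G : ℂ) * (χ : G → ℂ) (x⁻¹ * y) := by
  obtain ⟨f, n, ρ, hirr, rfl⟩ := χ
  haveI := hirr
  show (∑ t : G, conj (ρ.character (t * x)) * ρ.character (t * y)) * ρ.character 1 =
    (Nat.card G : ℂ) * ρ.character (x⁻¹ * y)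
  have h := CfsgLib.Char.sum_char_inv_mul_char ρ (x⁻¹ * y)
  have hre : ∑ t : G, conj (ρ.character (t * x)) * ρ.character (t * y) =
      ∑ g : G, ρ.character g⁻¹ * ρ.character (g * (x⁻¹ * y)) := by
    refine Fintype.sum_equiv (Equiv.mulRight x) _ _ fun t => ?_
    rw [Equiv.coe_mulRight, CfsgLib.Char.character_inv, show t * x * (x⁻¹ * y) = t * y by group]
  have hn : (Module.finrank ℂ (Fin n → ℂ) : ℂ) ≠ 0 :=
    Nat.cast_ne_zero.mpr (CfsgLib.Char.finrank_pos_of_irreducible ρ).ne'
  rw [hre, h, Representation.char_one]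
  field_simp

/-- An irreducible character is positive definite. -/
theorem posdef (χ : IrrCharacter G) {ι : Type*} [Fintype ι] (c : ι → ℂ) (x : ι → G) :
    0 ≤ (∑ i, ∑ j, conj (c i) * c j * (χ : G → ℂ) ((x i)⁻¹ * x j)).re := by
  obtain ⟨d, hd, hd1⟩ := CfsgLib.Char.IsIrrCharacter.exists_degree χ.2
  set F : G → ℂ := fun t => ∑ i, c i * (χ : G → ℂ) (t * x i) with hF
  have key : (∑ i, ∑ j, conj (c i) * c j * (χ : G → ℂ) ((x i)⁻¹ * x j)) * (Nat.card G : ℂ) =
      (∑ t, ((Complex.normSq (F t) : ℝ) : ℂ)) * (χ : G → ℂ) 1 := by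
    simp only [Finset.sum_mul, Complex.normSq_eq_conj_mul_self, hF, map_sum, map_mul,
      Finset.mul_sum]
    conv_rhs => rw [Finset.sum_comm]
    refine (Finset.sum_comm).trans (Finset.sum_congr rfl fun j _ => ?_)
    conv_rhs => rw [Finset.sum_comm]
    refine Finset.sum_congr rfl fun i _ => ?_
    rw [mul_assoc, mul_comm ((χ : G → ℂ) _) (Nat.card G : ℂ), ← sum_conj_translate,
      Finset.sum_mul, Finset.mul_sum]
    exact Finset.sum_congr rfl fun t _ => by ring
  rw [hd1, ← Complex.ofReal_sum, ← Complex.ofReal_natCast, ← Complex.ofReal_natCast d,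
    ← Complex.ofReal_mul] at key
  have key' := congrArg Complex.re key
  rw [Complex.re_mul_ofReal, Complex.ofReal_re] at key'
  have hG : (0 : ℝ) < Nat.card G := by exact_mod_cast Nat.card_pos
  have hpos : (0 : ℝ) ≤ (∑ t, Complex.normSq (F t)) * d :=
    mul_nonneg (Finset.sum_nonneg fun t _ => Complex.normSq_nonneg _) (Nat.cast_nonneg d)
  exact nonneg_of_mul_nonneg_left (key' ▸ hpos) hG

/-- The inner product of `h + k h k⁻¹` and `h' + k h' k⁻¹`. -/
noncomputable def gram (χ : IrrCharacter G) (k h h' : G) : ℂ :=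
  (χ : G → ℂ) (h⁻¹ * h') + (χ : G → ℂ) (k * (h⁻¹ * h') * k⁻¹) +
    (χ : G → ℂ) (h⁻¹ * (k * h' * k⁻¹)) + (χ : G → ℂ) (k * h⁻¹ * k⁻¹ * h')

theorem gram_pair (χ : IrrCharacter G) (k h h' : G) :
    0 ≤ (gram χ k h h + gram χ k h' h' - gram χ k h h' - gram χ k h' h).re := by
  have h0 := posdef χ ![1, 1, -1, -1] ![h, k * h * k⁻¹, h', k * h' * k⁻¹]
  simp only [Fin.sum_univ_four, Matrix.cons_val_zero, Matrix.cons_val_one, Matrix.cons_val,
    map_one, map_neg, one_mul, mul_one, neg_mul, mul_neg, neg_neg] at h0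
  refine h0.trans (le_of_eq (congrArg Complex.re ?_))
  simp only [gram, mul_inv_rev, inv_inv, mul_assoc, inv_mul_cancel_left]
  ring

/-- The norm of the sum of the `h + k h k⁻¹` is at most `|s|` times the sum of their norms. -/
theorem gram_ineq (χ : IrrCharacter G) (k : G) (s : Finset G) :
    (∑ h ∈ s, ∑ h' ∈ s, gram χ k h h').re ≤ (s.card : ℝ) * (∑ h ∈ s, gram χ k h h).re := by
  have h0 : 0 ≤ (∑ h ∈ s, ∑ h' ∈ s,
      (gram χ k h h + gram χ k h' h' - gram χ k h h' - gram χ k h' h)).re := by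
    simp only [Complex.re_sum]
    exact Finset.sum_nonneg fun h _ => Finset.sum_nonneg fun h' _ => gram_pair χ k h h'
  simp only [Finset.sum_sub_distrib, Finset.sum_add_distrib, Finset.sum_const, nsmul_eq_mul,
    ← Finset.mul_sum] at h0
  rw [Finset.sum_comm (f := fun h h' => gram χ k h' h)] at h0
  simp only [Complex.sub_re, Complex.add_re, Complex.mul_re,
    Complex.natCast_re, Complex.natCast_im, zero_mul, sub_zero] at h0
  linarith

end CfsgLib.ExtClosed
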