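import Cfsg.Agent.Lib.ExtClosed.Basic
import Cfsg.Agent.Lib.ExtClosed.PosDef
import Cfsg.Agent.Lib.ExtClosed.Column
import Cfsg.Agent.S0942

/-!
# Averages of principal block characters over an extremely closed abelian `p`-subgroup

Let `A` be the sum of a character `χ` of the principal block over the nontrivial elements of `H`.
Averaging over the products `g b g⁻¹ a` gives `|G| A² = χ(1) (|G| (q - 2) A + ∑ R)`, where `R` is a
sum over commutators, bounded below by positive definiteness and orthogonal to all the columns of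
`H` in the principal block.
-/

set_option autoImplicit false
set_option linter.style.haveILetI false
set_option linter.unusedSectionVars false
open Cfsg
open scoped ComplexConjugate

universe u

namespace CfsgLib.ExtClosed

open CfsgLib.Invol

variable {G : Type u} [Group G] [Fintype G] {p : ℕ} [Fact p.Prime] {H : Subgroup G}
  {M : Ideal Cfsg.AlgInt}

/-- The centralizers of the nontrivial elements of `H` meet the cores of the pairs inside their
`p'`-cores. -/
def Reg (p : ℕ) (H : Subgroup G) : Prop :=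
  ∀ c ∈ H, c ≠ 1 → ∀ g : G, ∀ x ∈ kern p H g, Commute c x → x ∈ Cfsg.centralizerPPrimeCore p c

open scoped Classical in
/-- The nontrivial elements of `H`. -/
noncomputable def sharp (H : Subgroup G) : Finset G :=
  Finset.univ.filter fun h => h ∈ H ∧ h ≠ 1

open scoped Classical in
/-- The elements of `H`. -/
noncomputable def elems (H : Subgroup G) : Finset G :=
  Finset.univ.filter fun h => h ∈ H

theorem mem_sharp {h : G} : h ∈ sharp H ↔ h ∈ H ∧ h ≠ 1 := by simp [sharp]

theorem mem_elems {h : G} : h ∈ elems H ↔ h ∈ H := by simp [elems]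

theorem card_elems : (elems H).card = Nat.card H := by
  classical
  rw [Nat.card_eq_fintype_card, Fintype.card_subtype]
  simp [elems]

theorem elems_eq [DecidableEq G] : elems H = insert 1 (sharp H) := by
  ext h
  by_cases h1 : h = 1 <;> simp [mem_elems, mem_sharp, h1]

theorem card_sharp : (sharp H).card + 1 = Nat.card H := by
  classical
  rw [← card_elems, elems_eq, Finset.card_insert_of_notMem (by simp [mem_sharp])]

theorem card_sharp_cast : ((sharp H).card : ℂ) = (Nat.card H : ℂ) - 1 := by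
  rw [← card_sharp (H := H)]; push_cast; ring

theorem sum_elems (f : G → ℂ) : ∑ h ∈ elems H, f h = f 1 + ∑ h ∈ sharp H, f h := by
  classical
  rw [elems_eq, Finset.sum_insert (by simp [mem_sharp])]

theorem pow_orderOf_of_mem (hE : EC p H) {a : G} (ha : a ∈ H) : ∃ k : ℕ, orderOf a = p ^ k := by
  obtain ⟨k, hk⟩ := IsPGroup.iff_orderOf.1 hE.pgrp ⟨a, ha⟩
  exact ⟨k, by rwa [Subgroup.orderOf_mk] at hk⟩

/-- The sum of `χ` over the nontrivial elements of `H`. -/
noncomputable def asum (H : Subgroup G) (χ : IrrCharacter G) : ℂ :=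
  ∑ h ∈ sharp H, (χ : G → ℂ) h

/-- The sum of `χ` over the commutators of `H` with `σ g`. -/
noncomputable def rsum (hE : EC p H) (χ : IrrCharacter G) (g : G) : ℂ :=
  ∑ a ∈ sharp H, (χ : G → ℂ) (a * hE.sigma g * a⁻¹ * (hE.sigma g)⁻¹)

theorem conj_asum (χ : IrrCharacter G) : conj (asum H χ) = asum H χ := by
  rw [asum, map_sum]
  refine Finset.sum_nbij' (fun h => h⁻¹) (fun h => h⁻¹) ?_ ?_ ?_ ?_ ?_ <;>
    simp [mem_sharp, CfsgLib.Char.IsIrrCharacter.apply_inv χ.2]

theorem asum_re (χ : IrrCharacter G) : ((asum H χ).re : ℂ) = asum H χ :=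
  Complex.conj_eq_iff_re.1 (conj_asum χ)

/-- A principal block character is constant on the cosets `c · kern H g`. -/
theorem val_coset (hE : EC p H) (hR : Reg p H) (hM : Cfsg.IsPModular p M) {χ : IrrCharacter G}
    (hχ : χ ∈ BlockCol.pBlock M G) {c y g : G} (hc : c ∈ H) (hc1 : c ≠ 1)
    (hy : y ∈ kern p H g) : (χ : G → ℂ) (c * y) = (χ : G → ℂ) c := by
  obtain ⟨k, -, x, hx, hcx, e⟩ := hE.exists_conj_split hc hy
  rw [← CfsgLib.Char.IsIrrCharacter.isClassFunction χ.2 (c * y) k, e]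
  exact Cfsg.Agent.S0942.result p M hM c (pow_orderOf_of_mem hE hc) x
    (hR c hc hc1 g x hx hcx) χ (BlockCol.mem_pBlock.1 hχ)

theorem commutator_mem_kern {g k a : G} (ha : a ∈ H) (hk : k ∈ kern p H g) :
    a * k * a⁻¹ * k⁻¹ ∈ kern p H g :=
  mul_mem (kern_conj (mem_pair ha) hk) (inv_mem hk)

/-- The value at a product of `a` with a conjugate of `c` under the core. -/
theorem val_product (hE : EC p H) (hR : Reg p H) (hM : Cfsg.IsPModular p M) {χ : IrrCharacter G}
    (hχ : χ ∈ BlockCol.pBlock M G) {a c k g : G} (ha : a ∈ H) (hc : c ∈ H)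
    (hk : k ∈ kern p H g) (hac : a * c ≠ 1) :
    (χ : G → ℂ) (a * (k * c * k⁻¹)) = (χ : G → ℂ) (a * c) := by
  rw [show a * (k * c * k⁻¹) = a * c * (c⁻¹ * k * c * k⁻¹) by group]
  refine val_coset hE hR hM hχ (mul_mem ha hc) hac (g := g) ?_
  simpa using commutator_mem_kern (inv_mem hc) hk

/-- The products `g b g⁻¹ a` for a fixed `g`. -/
theorem double_sum (hE : EC p H) (hR : Reg p H) (hM : Cfsg.IsPModular p M) {χ : IrrCharacter G}
    (hχ : χ ∈ BlockCol.pBlock M G) (g : G) :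
    ∑ a ∈ sharp H, ∑ b ∈ sharp H, (χ : G → ℂ) (g * b * g⁻¹ * a) =
      ((Nat.card H : ℂ) - 2) * asum H χ + rsum hE χ g := by
  classical
  set k := hE.sigma g with hk
  set n := hE.nu g with hn
  have hkO : k ∈ kern p H g := hE.sigma_mem g
  have hnN : ∀ y, y ∈ H ↔ n * y * n⁻¹ ∈ H := Subgroup.mem_normalizer_iff.1 (hE.nu_mem g)
  have hre : ∀ a ∈ sharp H, ∑ b ∈ sharp H, (χ : G → ℂ) (g * b * g⁻¹ * a) =
      (χ : G → ℂ) (a * k * a⁻¹ * k⁻¹) + (asum H χ - (χ : G → ℂ) a) := by
    intro a ha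
    obtain ⟨haH, ha1⟩ := mem_sharp.1 ha
    have h1 : ∑ b ∈ sharp H, (χ : G → ℂ) (g * b * g⁻¹ * a) =
        ∑ c ∈ sharp H, (χ : G → ℂ) (a * (k * c * k⁻¹)) := by
      refine Finset.sum_nbij' (fun b => n * b * n⁻¹) (fun c => n⁻¹ * c * n) ?_ ?_ ?_ ?_ ?_
      · intro b hb
        obtain ⟨hbH, hb1⟩ := mem_sharp.1 hb
        exact mem_sharp.2 ⟨(hnN b).1 hbH, by simpa using hb1⟩
      · intro c hc
        obtain ⟨hcH, hc1⟩ := mem_sharp.1 hc
        refine mem_sharp.2 ⟨(hnN _).2 (by simpa [mul_assoc] using hcH), fun h => hc1 ?_⟩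
        have := congrArg (fun x => n * x * n⁻¹) h
        simpa [mul_assoc] using this
      · intro b _; simp [mul_assoc]
      · intro c _; simp [mul_assoc]
      · intro b _
        rw [CfsgLib.Char.IsClassFunction.mul_comm'
          (CfsgLib.Char.IsIrrCharacter.isClassFunction χ.2), hE.conj_eq g b]
    have hmem : a⁻¹ ∈ sharp H := mem_sharp.2 ⟨inv_mem haH, inv_ne_one.2 ha1⟩
    rw [h1, ← Finset.add_sum_erase _ _ hmem]
    congr 1
    · simp [mul_assoc]
    rw [Finset.sum_congr rfl (g := fun c => (χ : G → ℂ) (a * c)) fun c hc => by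
      obtain ⟨hne, hc'⟩ := Finset.mem_erase.1 hc
      obtain ⟨hcH, -⟩ := mem_sharp.1 hc'
      exact val_product hE hR hM hχ haH hcH hkO fun h => hne (eq_inv_of_mul_eq_one_right h)]
    rw [asum, ← Finset.sum_erase_eq_sub ha]
    refine Finset.sum_nbij' (fun c => a * c) (fun t => a⁻¹ * t) ?_ ?_ ?_ ?_ ?_
    · intro c hc
      obtain ⟨hne, hc'⟩ := Finset.mem_erase.1 hc
      obtain ⟨hcH, hc1⟩ := mem_sharp.1 hc'
      refine Finset.mem_erase.2 ⟨by simpa using hc1,
        mem_sharp.2 ⟨mul_mem haH hcH, fun h => hne (eq_inv_of_mul_eq_one_right h)⟩⟩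
    · intro t ht
      obtain ⟨hne, ht'⟩ := Finset.mem_erase.1 ht
      obtain ⟨htH, ht1⟩ := mem_sharp.1 ht'
      refine Finset.mem_erase.2 ⟨by simpa using ht1,
        mem_sharp.2 ⟨mul_mem (inv_mem haH) htH, fun h => hne ((inv_mul_eq_one.1 h).symm)⟩⟩
    · intro c _; simp
    · intro t _; simp
    · intro c _; rfl
  rw [Finset.sum_congr rfl hre, Finset.sum_add_distrib, Finset.sum_sub_distrib, Finset.sum_const,
    nsmul_eq_mul, card_sharp_cast, rsum, ← hk]
  simp only [asum]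
  ring

/-- The averaged identity. -/
theorem average (hE : EC p H) (hR : Reg p H) (hM : Cfsg.IsPModular p M) {χ : IrrCharacter G}
    (hχ : χ ∈ BlockCol.pBlock M G) :
    (Nat.card G : ℂ) * (asum H χ * asum H χ) = (χ : G → ℂ) 1 *
      ((Nat.card G : ℂ) * (((Nat.card H : ℂ) - 2) * asum H χ) + ∑ g, rsum hE χ g) := by
  have h : ∑ g : G, ∑ a ∈ sharp H, ∑ b ∈ sharp H, (χ : G → ℂ) (g * b * g⁻¹ * a) =
      ∑ g : G, (((Nat.card H : ℂ) - 2) * asum H χ + rsum hE χ g) :=
    Finset.sum_congr rfl fun g _ => double_sum hE hR hM hχ g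
  rw [Finset.sum_add_distrib, Finset.sum_const, Finset.card_univ, nsmul_eq_mul,
    ← Nat.card_eq_fintype_card] at h
  rw [← h, Finset.sum_comm, asum, Finset.sum_mul_sum, Finset.mul_sum, Finset.mul_sum]
  refine Finset.sum_congr rfl fun a _ => ?_
  rw [Finset.sum_comm, Finset.mul_sum, Finset.mul_sum]
  refine Finset.sum_congr rfl fun b _ => ?_
  rw [mul_comm ((χ : G → ℂ) 1), CfsgLib.Blk83.sum_conj_mul χ b a, ← Nat.card_eq_fintype_card]
  ring

/-- The sum of the norms and the norm of the sum of the `h + k h k⁻¹`. -/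
theorem gram_sums (hE : EC p H) (hR : Reg p H) (hM : Cfsg.IsPModular p M) {χ : IrrCharacter G}
    (hχ : χ ∈ BlockCol.pBlock M G) (g : G) :
    (∑ h ∈ elems H, gram χ (hE.sigma g) h h =
        2 * (Nat.card H : ℂ) * (χ : G → ℂ) 1 + 2 * ((χ : G → ℂ) 1 + rsum hE χ g)) ∧
    (∑ h ∈ elems H, ∑ h' ∈ elems H, gram χ (hE.sigma g) h h' =
        2 * ((Nat.card H : ℂ) * ((χ : G → ℂ) 1 + asum H χ) +
          ((Nat.card H : ℂ) * asum H χ + (χ : G → ℂ) 1 + rsum hE χ g))) := by
  classical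
  set k := hE.sigma g with hk
  have hkO : k ∈ kern p H g := hE.sigma_mem g
  have hcl := CfsgLib.Char.IsIrrCharacter.isClassFunction χ.2
  set D := (χ : G → ℂ) 1 + rsum hE χ g with hD
  set T := (χ : G → ℂ) 1 + asum H χ with hT
  have hD1 : ∑ h ∈ elems H, (χ : G → ℂ) (h * k * h⁻¹ * k⁻¹) = D := by
    rw [sum_elems, one_mul, inv_one, mul_one, mul_inv_cancel]
    rfl
  have hD' : ∑ h ∈ elems H, (χ : G → ℂ) (h⁻¹ * (k * h * k⁻¹)) = D := by
    rw [← hD1]
    refine Finset.sum_nbij' (fun h => h⁻¹) (fun h => h⁻¹) ?_ ?_ ?_ ?_ ?_ <;>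
      simp [mem_elems, mul_assoc]
  have hD'' : ∑ h ∈ elems H, (χ : G → ℂ) (k * h⁻¹ * k⁻¹ * h) = D := by
    rw [← hD1]
    refine Finset.sum_congr rfl fun h _ => ?_
    rw [CfsgLib.Char.IsClassFunction.mul_comm' hcl, show h * (k * h⁻¹ * k⁻¹) = h * k * h⁻¹ * k⁻¹ by group]
  constructor
  · simp only [gram, inv_mul_cancel, mul_one, mul_inv_cancel, Finset.sum_add_distrib,
      Finset.sum_const, card_elems, nsmul_eq_mul, hD', hD'']
    ring
  have hT1 : ∀ h ∈ elems H, ∑ h' ∈ elems H, (χ : G → ℂ) (h⁻¹ * h') = T := by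
    intro h hh
    rw [hT, asum, ← sum_elems]
    have hH := mem_elems.1 hh
    refine Finset.sum_nbij' (fun h' => h⁻¹ * h') (fun t => h * t) ?_ ?_ ?_ ?_ ?_
    · intro x hx; exact mem_elems.2 (mul_mem (inv_mem hH) (mem_elems.1 hx))
    · intro x hx; exact mem_elems.2 (mul_mem hH (mem_elems.1 hx))
    · intro x _; simp
    · intro x _; simp
    · intro x _; rfl
  have e3 : ∀ h ∈ elems H, ∀ h' ∈ elems H, h' ≠ h →
      (χ : G → ℂ) (h⁻¹ * (k * h' * k⁻¹)) = (χ : G → ℂ) (h⁻¹ * h') :=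
    fun h hh h' hh' hne => val_product hE hR hM hχ (inv_mem (mem_elems.1 hh)) (mem_elems.1 hh') hkO
      fun e => hne ((inv_mul_eq_one.1 e).symm)
  have e4 : ∀ h ∈ elems H, ∀ h' ∈ elems H, h' ≠ h →
      (χ : G → ℂ) (k * h⁻¹ * k⁻¹ * h') = (χ : G → ℂ) (h⁻¹ * h') := by
    intro h hh h' hh' hne
    rw [CfsgLib.Char.IsClassFunction.mul_comm' hcl, val_product hE hR hM hχ (mem_elems.1 hh')
      (inv_mem (mem_elems.1 hh)) hkO (fun e => hne (mul_inv_eq_one.1 e)),
      CfsgLib.Char.IsClassFunction.mul_comm' hcl]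
  have step : ∀ F : G → G → ℂ, ∑ h ∈ elems H, F h h = D →
      (∀ h ∈ elems H, ∀ h' ∈ elems H, h' ≠ h → F h h' = (χ : G → ℂ) (h⁻¹ * h')) →
      ∑ h ∈ elems H, ∑ h' ∈ elems H, F h h' =
        (Nat.card H : ℂ) * T - (Nat.card H : ℂ) * (χ : G → ℂ) 1 + D := by
    intro F hd ho
    have : ∀ h ∈ elems H, ∑ h' ∈ elems H, F h h' = T - (χ : G → ℂ) 1 + F h h := by
      intro h hh
      rw [← Finset.sum_erase_add _ _ hh, ← hT1 h hh, ← Finset.sum_erase_add _ (fun h' => (χ : G → ℂ) (h⁻¹ * h')) hh,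
        inv_mul_cancel, add_sub_cancel_right,
        Finset.sum_congr rfl fun h' hh' => ho h hh h' (Finset.mem_erase.1 hh').2 (Finset.mem_erase.1 hh').1]
    rw [Finset.sum_congr rfl this, Finset.sum_add_distrib, hd, Finset.sum_const, card_elems,
      nsmul_eq_mul, mul_sub]
  have hT2 : ∑ h ∈ elems H, ∑ h' ∈ elems H, (χ : G → ℂ) (h⁻¹ * h') = (Nat.card H : ℂ) * T := by
    rw [Finset.sum_congr rfl hT1, Finset.sum_const, card_elems, nsmul_eq_mul]
  have hconj : ∀ h h', (χ : G → ℂ) (k * (h⁻¹ * h') * k⁻¹) = (χ : G → ℂ) (h⁻¹ * h') :=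
    fun h h' => hcl _ _
  simp only [gram, hconj, Finset.sum_add_distrib, hT2, step _ hD' e3, step _ hD'' e4]
  simp only [hT, hD]
  ring

/-- The lower bound for the commutator sum. -/
theorem rsum_ge (hE : EC p H) (hR : Reg p H) (hM : Cfsg.IsPModular p M) {χ : IrrCharacter G}
    (hχ : χ ∈ BlockCol.pBlock M G) {d : ℕ} (hd : (χ : G → ℂ) 1 = d) (g : G) :
    2 * (Nat.card H : ℝ) * (asum H χ).re - ((Nat.card H : ℝ) ^ 2 - 1) * d ≤
      ((Nat.card H : ℝ) - 1) * (rsum hE χ g).re := by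
  obtain ⟨h1, h2⟩ := gram_sums hE hR hM hχ g
  have h := gram_ineq χ (hE.sigma g) (elems H)
  rw [h1, h2, card_elems, hd] at h
  simp only [Complex.add_re, Complex.mul_re, Complex.add_im, Complex.mul_im, Complex.natCast_re,
    Complex.natCast_im, Complex.re_ofNat, Complex.im_ofNat, zero_mul, mul_zero, sub_zero,
    add_zero, zero_add] at h
  linarith

/-- The real part of the averaged identity. -/
theorem average_re (hE : EC p H) (hR : Reg p H) (hM : Cfsg.IsPModular p M) {χ : IrrCharacter G}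
    (hχ : χ ∈ BlockCol.pBlock M G) {d : ℕ} (hd : (χ : G → ℂ) 1 = d) :
    (Nat.card G : ℝ) * ((asum H χ).re * (asum H χ).re) = d *
      ((Nat.card G : ℝ) * (((Nat.card H : ℝ) - 2) * (asum H χ).re) +
        ∑ g, (rsum hE χ g).re) := by
  have h := congrArg Complex.re (average hE hR hM hχ)
  rw [hd, ← asum_re χ] at h
  simp only [Complex.add_re, Complex.mul_re, Complex.sub_re, Complex.sub_im, Complex.mul_im,
    Complex.natCast_re, Complex.natCast_im, Complex.ofReal_re, Complex.ofReal_im, Complex.re_ofNat,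
    Complex.im_ofNat, Complex.re_sum, zero_mul, mul_zero, sub_zero, add_zero] at h
  linarith

theorem quad_of_bound (hE : EC p H) (hR : Reg p H) (hM : Cfsg.IsPModular p M) {χ : IrrCharacter G}
    (hχ : χ ∈ BlockCol.pBlock M G) {d : ℕ} (hd : (χ : G → ℂ) 1 = d) {α β : ℝ}
    (hg : ∀ g, α * (asum H χ).re + β * d ≤ (rsum hE χ g).re) :
    d * (((Nat.card H : ℝ) - 2 + α) * (asum H χ).re + β * d) ≤
      (asum H χ).re * (asum H χ).re := by
  have h := average_re hE hR hM hχ hd
  have hs : (Nat.card G : ℝ) * (α * (asum H χ).re + β * d) ≤ ∑ g, (rsum hE χ g).re := by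
    have := Finset.sum_le_sum (s := Finset.univ) fun g (_ : g ∈ Finset.univ) => hg g
    rwa [Finset.sum_const, Finset.card_univ, nsmul_eq_mul, ← Nat.card_eq_fintype_card] at this
  have hG : (0 : ℝ) < Nat.card G := by exact_mod_cast Nat.card_pos
  refine le_of_mul_le_mul_left ?_ hG
  rw [h]
  nlinarith [mul_le_mul_of_nonneg_left hs (Nat.cast_nonneg (α := ℝ) d)]

/-- The quadratic inequality. -/
theorem quad (hE : EC p H) (hR : Reg p H) (hM : Cfsg.IsPModular p M) {χ : IrrCharacter G}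
    (hχ : χ ∈ BlockCol.pBlock M G) {d : ℕ} (hd : (χ : G → ℂ) 1 = d) (hq : 2 ≤ Nat.card H) :
    0 ≤ ((asum H χ).re - ((Nat.card H : ℝ) - 1) * d) *
      (((Nat.card H : ℝ) - 1) * (asum H χ).re - ((Nat.card H : ℝ) + 1) * d) := by
  have hq' : (0 : ℝ) < (Nat.card H : ℝ) - 1 := by
    have : (2 : ℝ) ≤ Nat.card H := by exact_mod_cast hq
    linarith
  have h := quad_of_bound hE hR hM hχ hd
    (α := 2 * (Nat.card H : ℝ) / ((Nat.card H : ℝ) - 1))
    (β := -(((Nat.card H : ℝ) ^ 2 - 1) / ((Nat.card H : ℝ) - 1))) fun g => by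
      have := rsum_ge hE hR hM hχ hd g
      refine le_of_mul_le_mul_left ?_ hq'
      field_simp
      linarith
  have h2 := mul_le_mul_of_nonneg_left h hq'.le
  field_simp at h2
  nlinarith

/-- Only the principal character attains the largest sum over `H`. -/
theorem asum_re_le (χ : IrrCharacter G) {d : ℕ} (hd : (χ : G → ℂ) 1 = d)
    (hX : Subgroup.normalClosure (H : Set G) = ⊤) :
    (asum H χ).re ≤ ((Nat.card H : ℝ) - 1) * d ∧
      ((asum H χ).re = ((Nat.card H : ℝ) - 1) * d → χ = CfsgLib.Char.principalIrr) := by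
  have hc : ((sharp H).card : ℝ) = (Nat.card H : ℝ) - 1 := by
    rw [← card_sharp (H := H)]; push_cast; ring
  have hdd : ((CfsgLib.Char.degree (χ : G → ℂ)) : ℝ) = d := by
    have := CfsgLib.Char.IsCharacter.degree_cast (CfsgLib.Char.IsIrrCharacter.isCharacter χ.2)
    rw [hd] at this
    exact_mod_cast this
  have hle : ∀ h, ‖(χ : G → ℂ) h‖ ≤ d := fun h => hdd ▸
    CfsgLib.Char.IsCharacter.norm_apply_le (CfsgLib.Char.IsIrrCharacter.isCharacter χ.2) h
  have hre : ∀ h ∈ sharp H, ((χ : G → ℂ) h).re ≤ d := fun h _ =>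
    (Complex.re_le_norm _).trans (hle h)
  have hsum : (asum H χ).re = ∑ h ∈ sharp H, ((χ : G → ℂ) h).re := Complex.re_sum _ _
  refine ⟨?_, fun heq => ?_⟩
  · rw [hsum, ← hc, ← nsmul_eq_mul, ← Finset.sum_const]
    exact Finset.sum_le_sum hre
  rw [hsum, ← hc, ← nsmul_eq_mul, ← Finset.sum_const] at heq
  have hall := (Finset.sum_eq_sum_iff_of_le hre).1 heq
  obtain ⟨n, ρ, hρ, hχρ⟩ := id χ.2
  have hker : ∀ g, ρ g = 1 := by
    have hH : ∀ h ∈ H, ρ h = 1 := by
      intro h hh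
      by_cases h1 : h = 1
      · rw [h1, map_one]
      have h2 := hall h (mem_sharp.2 ⟨hh, h1⟩)
      have him : ((χ : G → ℂ) h).im = 0 := by
        have h3 := Complex.sq_norm ((χ : G → ℂ) h)
        rw [Complex.normSq_apply, h2] at h3
        have h4 : ‖(χ : G → ℂ) h‖ ^ 2 ≤ (d : ℝ) ^ 2 := pow_le_pow_left₀ (norm_nonneg _) (hle h) 2
        exact mul_self_eq_zero.1 (le_antisymm (by nlinarith) (mul_self_nonneg _))
      have hval : ρ.character h = ρ.character 1 := by
        rw [hχρ, hd]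
        exact Complex.ext (by simpa using h2) (by simpa using him)
      rw [CfsgLib.Char.eq_smul_id_of_character_eq ρ h 1 (by simp)
        (by rw [hval, Representation.char_one, mul_one]), one_smul]
      rfl
    intro g
    have hg : g ∈ MonoidHom.ker ρ :=
      (Subgroup.normalClosure_le_normal (N := MonoidHom.ker ρ)
        (fun h hh => MonoidHom.mem_ker.2 (hH h hh))) (hX ▸ Subgroup.mem_top g)
    exact MonoidHom.mem_ker.1 hg
  haveI := hρ
  apply Subtype.ext
  funext g
  rw [← hχρ, CfsgLib.Char.principalIrr_apply, Representation.character, hker g,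
    LinearMap.trace_one, CfsgLib.CharKernel.finrank_eq_one_of_trivial ρ hker, Nat.cast_one]

/-- The bound for the other characters. -/
theorem asum_bound (hE : EC p H) (hR : Reg p H) (hM : Cfsg.IsPModular p M) {χ : IrrCharacter G}
    (hχ : χ ∈ BlockCol.pBlock M G) {d : ℕ} (hd : (χ : G → ℂ) 1 = d) (hq : 2 ≤ Nat.card H)
    (hX : Subgroup.normalClosure (H : Set G) = ⊤) (hne : χ ≠ CfsgLib.Char.principalIrr) :
    ((Nat.card H : ℝ) - 1) * (asum H χ).re ≤ ((Nat.card H : ℝ) + 1) * d := by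
  obtain ⟨h1, h2⟩ := asum_re_le χ hd hX
  have h3 : (asum H χ).re < ((Nat.card H : ℝ) - 1) * d := lt_of_le_of_ne h1 fun e => hne (h2 e)
  have h4 := quad hE hR hM hχ hd hq
  by_contra hcon
  push Not at hcon
  nlinarith [mul_neg_of_neg_of_pos (sub_neg.2 h3) (sub_pos.2 hcon)]

/-- The degrees are orthogonal to the sums over `H`. -/
theorem sum_degree_mul_asum (hE : EC p H) (hM : Cfsg.IsPModular p M) :
    ∑ χ ∈ BlockCol.pBlock M G, (χ : G → ℂ) 1 * asum H χ = 0 := by
  simp only [asum, Finset.mul_sum]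
  rw [Finset.sum_comm]
  refine Finset.sum_eq_zero fun h hh => ?_
  obtain ⟨hH, h1⟩ := mem_sharp.1 hh
  rw [← col_orth_regular hM (pow_orderOf_of_mem hE hH) h1
    (y := 1) (by rw [orderOf_one]; exact (Fact.out : p.Prime).not_dvd_one)]
  exact Finset.sum_congr rfl fun χ _ => mul_comm _ _

/-- The sums over `H` are orthogonal to the commutator sums. -/
theorem sum_asum_mul_rsum (hE : EC p H) (hM : Cfsg.IsPModular p M) (g : G) :
    ∑ χ ∈ BlockCol.pBlock M G, asum H χ * rsum hE χ g = 0 := by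
  simp only [asum, rsum, Finset.sum_mul_sum]
  rw [Finset.sum_comm]
  refine Finset.sum_eq_zero fun h hh => ?_
  rw [Finset.sum_comm]
  refine Finset.sum_eq_zero fun a ha => ?_
  obtain ⟨hH, h1⟩ := mem_sharp.1 hh
  exact col_orth_regular hM (pow_orderOf_of_mem hE hH) h1 (regular_of_mem_kern
    (commutator_mem_kern (mem_sharp.1 ha).1 (hE.sigma_mem g)))

theorem principal_mem (hM : Cfsg.IsPModular p M) :
    (CfsgLib.Char.principalIrr : IrrCharacter G) ∈ BlockCol.pBlock M G :=
  haveI := hM.2.1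
  BlockCol.mem_pBlock.2 CfsgLib.Blocks.principalIrr_mem_principalBlock

theorem asum_principal : asum H (CfsgLib.Char.principalIrr : IrrCharacter G) =
    (Nat.card H : ℂ) - 1 := by
  simp [asum, CfsgLib.Char.principalIrr_apply, card_sharp_cast]

/-- The moment identity. -/
theorem moment [DecidableEq (IrrCharacter G)] (hE : EC p H) (hR : Reg p H)
    (hM : Cfsg.IsPModular p M) :
    ∑ χ ∈ (BlockCol.pBlock M G).erase CfsgLib.Char.principalIrr,
        (asum H χ).re ^ 2 * (((Nat.card H : ℝ) - 2) - (asum H χ).re / ((χ : G → ℂ) 1).re) =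
      ((Nat.card H : ℝ) - 1) ^ 2 := by
  set F : IrrCharacter G → ℝ := fun χ =>
    (asum H χ).re ^ 2 * (((Nat.card H : ℝ) - 2) - (asum H χ).re / ((χ : G → ℂ) 1).re) with hF
  have hG : (0 : ℝ) < Nat.card G := by exact_mod_cast Nat.card_pos
  have hterm : ∀ χ ∈ BlockCol.pBlock M G, (Nat.card G : ℝ) * F χ =
      -(∑ g, (asum H χ * rsum hE χ g).re) := by
    intro χ hχ
    obtain ⟨d, hd, hd1⟩ := CfsgLib.Char.IsIrrCharacter.exists_degree χ.2
    have h := average_re hE hR hM hχ hd1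
    have hd0 : (d : ℝ) ≠ 0 := by
      intro h0
      apply CfsgLib.Char.IsIrrCharacter.apply_one_ne_zero χ.2
      rw [hd1]; exact_mod_cast h0
    have hre : ∑ g, (asum H χ * rsum hE χ g).re = (asum H χ).re * ∑ g, (rsum hE χ g).re := by
      rw [Finset.mul_sum]
      refine Finset.sum_congr rfl fun g _ => ?_
      rw [← asum_re χ, Complex.re_ofReal_mul, Complex.ofReal_re]
    simp only [hF, hre, hd1, Complex.natCast_re]
    field_simp
    linear_combination (asum H χ).re * (-1 : ℝ) * h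
  have hzero : ∑ χ ∈ BlockCol.pBlock M G, F χ = 0 := by
    refine (mul_eq_zero.1 (?_ : (Nat.card G : ℝ) * _ = 0)).resolve_left hG.ne'
    rw [Finset.mul_sum, Finset.sum_congr rfl hterm, Finset.sum_neg_distrib, Finset.sum_comm,
      neg_eq_zero]
    refine Finset.sum_eq_zero fun g _ => ?_
    rw [← Complex.re_sum, sum_asum_mul_rsum hE hM g, Complex.zero_re]
  rw [← Finset.add_sum_erase _ _ (principal_mem hM)] at hzero
  have h1 : F CfsgLib.Char.principalIrr = -((Nat.card H : ℝ) - 1) ^ 2 := by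
    simp only [hF, asum_principal, CfsgLib.Char.principalIrr_apply, Complex.sub_re,
      Complex.natCast_re, Complex.one_re, div_one]
    ring
  rw [h1] at hzero
  linarith

end CfsgLib.ExtClosed
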