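import Cfsg.Agent.S3020
import Cfsg.Agent.S3021
import Cfsg.Agent.Lib.LocalEven.CharP
import Cfsg.Agent.Lib.Solvable.CoprimeAction
import Cfsg.Agent.Lib.Solvable.Core
import Cfsg.Agent.Lib.Blocks.PPart
import Cfsg.Prelude.Def_SubgroupEmbedding
import Cfsg.Prelude.Def_Local

/-!
# Extremely closed abelian `p`-subgroups: structure of the pairs and inheritance

For an extremely closed abelian `p`-subgroup `H` the group `pair H g`, generated by `H` and its
conjugate by `g`, is `kern H g · H` with `kern H g` its `p'`-core, and every element of a coset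
`c · kern H g` is conjugate in it to `c x` with `x` in the core and commuting with `c`.
-/

set_option autoImplicit false
set_option linter.style.haveILetI false
set_option linter.unusedSectionVars false
open Cfsg

universe u v

namespace CfsgLib.ExtClosed

variable {G : Type u} [Group G] [Finite G] {p : ℕ} [Fact p.Prime]

/-- The hypothesis on `H`. -/
structure EC (p : ℕ) (H : Subgroup G) : Prop where
  pgrp : IsPGroup p H
  ab : IsMulCommutative H
  ec : Cfsg.IsExtremelyClosed H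

/-- The subgroup generated by `H` and its conjugate by `g`. -/
def pair (H : Subgroup G) (g : G) : Subgroup G := H ⊔ H.map (MulAut.conj g).toMonoidHom

variable (p) in
/-- The `p'`-core of `pair H g`, inside `G`. -/
def kern (H : Subgroup G) (g : G) : Subgroup G :=
  (Cfsg.pPrimeCore p ↥(pair H g)).map (pair H g).subtype

/-- An element of a `p`-group of order prime to `p` is trivial. -/
theorem eq_one_of_regular {R : Subgroup G} (hR : IsPGroup p R) {x : G} (hx : x ∈ R)
    (hreg : ¬ p ∣ orderOf x) : x = 1 :=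
  CfsgLib.LocalEven.eq_one_of_isPGroup_of_coprime hR hx
    ((Fact.out : p.Prime).coprime_iff_not_dvd.2 hreg).symm

omit [Finite G] in
/-- Elements of a subgroup of order prime to `p` are `p`-regular. -/
theorem not_dvd_orderOf_of_mem {R : Subgroup G} (hR : (Nat.card R).Coprime p) {x : G}
    (hx : x ∈ R) : ¬ p ∣ orderOf x := by
  intro h
  have h1 : orderOf x ∣ Nat.card R := by
    rw [← Subgroup.orderOf_mk x hx]; exact orderOf_dvd_natCard _
  exact (Fact.out : p.Prime).ne_one (Nat.eq_one_of_dvd_coprimes hR (h.trans h1) dvd_rfl)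

/-- An element of order prime to `p` in the product of a normal subgroup with a `p`-group lies in
the normal subgroup. -/
theorem mem_of_regular_sup {H R : Subgroup G} (hH : IsPGroup p H) (hR : R.Normal) {x : G}
    (hx : x ∈ R ⊔ H) (hreg : ¬ p ∣ orderOf x) : x ∈ R := by
  obtain ⟨r, hr, h, hh, rfl⟩ := Subgroup.mem_sup_of_normal_left.1 hx
  rw [← QuotientGroup.eq_one_iff (r * h)]
  have e : ((r * h : G) : G ⧸ R) = (h : G ⧸ R) := by
    rw [QuotientGroup.mk_mul, (QuotientGroup.eq_one_iff r).2 hr, one_mul]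
  refine eq_one_of_regular (hH.map (QuotientGroup.mk' R)) ⟨h, hh, e.symm⟩ ?_
  exact fun hd => hreg (hd.trans (orderOf_map_dvd (QuotientGroup.mk' R) (r * h)))

variable {H : Subgroup G}

theorem EC.comm (hE : EC p H) {x y : G} (hx : x ∈ H) (hy : y ∈ H) : Commute x y :=
  congrArg Subtype.val (hE.ab.is_comm.comm (⟨x, hx⟩ : H) ⟨y, hy⟩)

theorem EC.isSolvable (hE : EC p H) : Group.IsSolvable H :=
  haveI := hE.ab
  open IsMulCommutative in inferInstance

theorem kern_le (g : G) : kern p H g ≤ pair H g := Subgroup.map_subtype_le _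

theorem card_kern_coprime (g : G) : (Nat.card (kern p H g)).Coprime p := by
  rw [kern, Subgroup.card_map_of_injective (Subgroup.subtype_injective _)]
  exact CfsgLib.Solvable.pPrimeCore_card_coprime p _

theorem regular_of_mem_kern {g y : G} (hy : y ∈ kern p H g) : ¬ p ∣ orderOf y :=
  not_dvd_orderOf_of_mem (card_kern_coprime g) hy

theorem kern_conj {g k y : G} (hk : k ∈ pair H g) (hy : y ∈ kern p H g) :
    k * y * k⁻¹ ∈ kern p H g := by
  obtain ⟨y, hy', rfl⟩ := hy
  exact ⟨_, (CfsgLib.Solvable.pPrimeCore_normal p _).conj_mem y hy' ⟨k, hk⟩, rfl⟩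

theorem conj_mem_pair {g h : G} (hh : h ∈ H) : g * h * g⁻¹ ∈ pair H g :=
  (le_sup_right : _ ≤ pair H g) ⟨h, hh, rfl⟩

theorem mem_pair {g h : G} (hh : h ∈ H) : h ∈ pair H g := (le_sup_left : _ ≤ pair H g) hh

theorem le_normalizer_kern (g : G) : H ≤ Subgroup.normalizer (kern p H g : Set G) :=
  Subgroup.le_normalizer_iff.2 fun _ hh _ hy => kern_conj (mem_pair hh) hy

theorem EC.coprime_kern (hE : EC p H) (g : G) :
    (Nat.card H).Coprime (Nat.card (kern p H g)) := by
  obtain ⟨k, hk⟩ := IsPGroup.iff_card.1 hE.pgrp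
  rw [hk]
  exact (card_kern_coprime g).symm.pow_left k

theorem EC.decomp (hE : EC p H) {g k : G} (hk : k ∈ pair H g) :
    ∃ o ∈ kern p H g, ∃ h ∈ H, k = o * h := by
  obtain ⟨hsup, -⟩ := Cfsg.Agent.S3020.result (p := p) H hE.pgrp hE.ab hE.ec g (pair H g) rfl
  haveI := CfsgLib.Solvable.pPrimeCore_normal p ↥(pair H g)
  have h2 : (⊤ : Subgroup ↥(pair H g)) = Cfsg.pPrimeCore p _ ⊔ H.subgroupOf _ := by
    apply Subgroup.map_injective (pair H g).subtype_injective
    rw [← MonoidHom.range_eq_map, Subgroup.range_subtype, Subgroup.map_sup,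
      Subgroup.map_subgroupOf_eq_of_le (show H ≤ pair H g from le_sup_left), sup_comm, hsup]
  obtain ⟨o, ho, h, hh, e⟩ := Subgroup.mem_sup_of_normal_left.mp
    (h2 ▸ Subgroup.mem_top (⟨k, hk⟩ : pair H g))
  exact ⟨o, ⟨o, ho, rfl⟩, h, Subgroup.mem_subgroupOf.mp hh, (congrArg Subtype.val e).symm⟩

theorem EC.kern_inter (hE : EC p H) {g y : G} (hy : y ∈ kern p H g) (hy' : y ∈ H) : y = 1 :=
  eq_one_of_regular hE.pgrp hy' (regular_of_mem_kern hy)

theorem EC.normalizer_inter (hE : EC p H) {g n : G}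
    (hn : n ∈ Subgroup.normalizer (H : Set G)) (hk : n ∈ pair H g) : n ∈ H :=
  (hE.ec g).le ⟨hk, hn⟩

theorem EC.kern_normalizer (hE : EC p H) {g n : G}
    (hn : n ∈ Subgroup.normalizer (H : Set G)) (hk : n ∈ kern p H g) : n = 1 :=
  hE.kern_inter hk (hE.normalizer_inter hn (kern_le g hk))

theorem EC.kern_centralizer (hE : EC p H) {g n : G} (hk : n ∈ kern p H g)
    (hn : ∀ h ∈ H, Commute n h) : n = 1 :=
  hE.kern_normalizer (Subgroup.centralizer_le_normalizer _
    (Subgroup.mem_centralizer_iff.2 fun h hh => (hn h hh).symm.eq)) hk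

/-- A conjugate of `H` normalizing `H` is `H`. -/
theorem EC.mem_normalizer_of_conj (hE : EC p H) {g : G}
    (hg : ∀ h ∈ H, g * h * g⁻¹ ∈ Subgroup.normalizer (H : Set G)) :
    g ∈ Subgroup.normalizer (H : Set G) := by
  have hle : H.map (MulAut.conj g).toMonoidHom ≤ H := by
    rintro _ ⟨h, hh, rfl⟩
    exact hE.normalizer_inter (hg h hh) (conj_mem_pair hh)
  have heq := Subgroup.eq_of_le_of_card_ge hle
    (Subgroup.card_map_of_injective (MulEquiv.injective _)).ge
  rw [Subgroup.mem_normalizer_iff]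
  intro y
  refine ⟨fun hy => hle (Subgroup.mem_map_of_mem _ hy), fun hy => ?_⟩
  rw [← heq] at hy
  obtain ⟨z, hz, hzy⟩ := hy
  simp at hzy
  rwa [← hzy]

theorem conj_map_eq_iff (o g : G) :
    H.map (MulAut.conj o).toMonoidHom = H.map (MulAut.conj g).toMonoidHom ↔
      o⁻¹ * g ∈ Subgroup.normalizer (H : Set G) := by
  have key : ∀ a x : G, x ∈ H.map (MulAut.conj a).toMonoidHom ↔ a⁻¹ * x * a ∈ H := by
    intro a x
    constructor
    · rintro ⟨y, hy, rfl⟩
      simpa [mul_assoc] using hy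
    · exact fun h => ⟨_, h, by simp [mul_assoc]⟩
  rw [SetLike.ext_iff, Subgroup.mem_normalizer_iff]
  constructor
  · intro h y
    have h1 := h (g * y * g⁻¹)
    rw [key, key, show g⁻¹ * (g * y * g⁻¹) * g = y by group] at h1
    rw [← h1, show o⁻¹ * (g * y * g⁻¹) * o = o⁻¹ * g * y * (o⁻¹ * g)⁻¹ by group]
  · intro h x
    rw [key, key, h (g⁻¹ * x * g),
      show o⁻¹ * g * (g⁻¹ * x * g) * (o⁻¹ * g)⁻¹ = o⁻¹ * x * o by group]

/-- `H` is a Sylow subgroup of each pair. -/
theorem EC.exists_sylow (hE : EC p H) (g : G) :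
    ∃ P : Sylow p ↥(pair H g), (P : Subgroup ↥(pair H g)) = H.subgroupOf (pair H g) := by
  set K := pair H g with hK
  have hHK : H ≤ K := le_sup_left
  obtain ⟨P, hP''⟩ := (hE.pgrp.comap_subtype (K := K)).exists_le_sylow
  have hP' : H.subgroupOf K ≤ P := hP''
  refine ⟨P, le_antisymm (fun x hx => Subgroup.mem_subgroupOf.mpr ?_) hP'⟩
  refine hE.normalizer_inter ?_ x.2
  refine Subgroup.le_normalizer.trans ((Cfsg.Agent.S3021.result H hE.pgrp hE.ec).1
    ((P : Subgroup K).map K.subtype) (P.isPGroup'.map _) ?_) ⟨x, hx, rfl⟩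
  have := Subgroup.map_mono (f := K.subtype) hP'
  rwa [Subgroup.map_subgroupOf_eq_of_le hHK] at this

/-- A `p`-subgroup of a pair is conjugate into `H` under the core. -/
theorem EC.exists_conj_le (hE : EC p H) {g : G} {R : Subgroup G} (hR : IsPGroup p R)
    (hRK : R ≤ pair H g) : ∃ k ∈ kern p H g, ∀ r ∈ R, k * r * k⁻¹ ∈ H := by
  obtain ⟨P, hP⟩ := hE.exists_sylow g
  obtain ⟨Q, hQ⟩ := (hR.comap_subtype (K := pair H g)).exists_le_sylow
  obtain ⟨k, hk⟩ := MulAction.exists_smul_eq ↥(pair H g) Q P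
  obtain ⟨o, ho, h, hh, e⟩ := hE.decomp k.2
  refine ⟨h⁻¹ * o * h, ?_, fun r hr => ?_⟩
  · simpa [mul_assoc] using kern_conj (mem_pair (inv_mem hh) (g := g)) ho
  · have h1 : k * ⟨r, hRK hr⟩ * k⁻¹ ∈ H.subgroupOf (pair H g) := by
      rw [← hP, ← hk]
      exact ⟨⟨r, hRK hr⟩, hQ (Subgroup.mem_subgroupOf.2 hr), rfl⟩
    have h2 := mul_mem (mul_mem (inv_mem hh) (Subgroup.mem_subgroupOf.1 h1)) hh
    simpa [e, mul_assoc] using h2

theorem EC.exists_sigma (hE : EC p H) (g : G) :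
    ∃ o ∈ kern p H g, o⁻¹ * g ∈ Subgroup.normalizer (H : Set G) := by
  obtain ⟨k, hk, h⟩ := hE.exists_conj_le (R := H.map (MulAut.conj g).toMonoidHom)
    (hE.pgrp.map _) le_sup_right (g := g)
  refine ⟨k⁻¹, inv_mem hk, hE.mem_normalizer_of_conj fun x hx => Subgroup.le_normalizer ?_⟩
  have := h (g * x * g⁻¹) ⟨x, hx, rfl⟩
  simpa [mul_assoc] using this

/-- `σ g` is an element of the core of `pair H g` conjugating `H` to its conjugate by `g`. -/
noncomputable def EC.sigma (hE : EC p H) (g : G) : G := (hE.exists_sigma g).choose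

/-- `ν g` is the part of `g` in the normalizer of `H`. -/
noncomputable def EC.nu (hE : EC p H) (g : G) : G := (hE.sigma g)⁻¹ * g

theorem EC.sigma_mem (hE : EC p H) (g : G) : hE.sigma g ∈ kern p H g :=
  (hE.exists_sigma g).choose_spec.1

theorem EC.nu_mem (hE : EC p H) (g : G) : hE.nu g ∈ Subgroup.normalizer (H : Set G) :=
  (hE.exists_sigma g).choose_spec.2

theorem EC.sigma_mul_nu (hE : EC p H) (g : G) : hE.sigma g * hE.nu g = g :=
  mul_inv_cancel_left _ _

theorem EC.conj_eq (hE : EC p H) (g b : G) :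
    g * b * g⁻¹ = hE.sigma g * (hE.nu g * b * (hE.nu g)⁻¹) * (hE.sigma g)⁻¹ := by
  simp [EC.nu, mul_assoc]

theorem EC.nu_conj_mem (hE : EC p H) (g : G) {b : G} (hb : b ∈ H) :
    hE.nu g * b * (hE.nu g)⁻¹ ∈ H :=
  (Subgroup.mem_normalizer_iff.mp (hE.nu_mem g) b).mp hb

/-- Fusion in `H` is realized in the normalizer. -/
theorem EC.nu_conj_eq (hE : EC p H) {g b : G} (hb : b ∈ H) (hgb : g * b * g⁻¹ ∈ H) :
    hE.nu g * b * (hE.nu g)⁻¹ = g * b * g⁻¹ := by
  have hn := hE.nu_conj_mem g hb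
  have e := hE.conj_eq g b
  have h1 : g * b * g⁻¹ * (hE.nu g * b * (hE.nu g)⁻¹)⁻¹ ∈ kern p H g := by
    revert hn e
    generalize hE.nu g * b * (hE.nu g)⁻¹ = h
    intro hn e
    rw [e, show hE.sigma g * h * (hE.sigma g)⁻¹ * h⁻¹ =
      hE.sigma g * (h * (hE.sigma g)⁻¹ * h⁻¹) by group]
    exact mul_mem (hE.sigma_mem g) (kern_conj (mem_pair hn) (inv_mem (hE.sigma_mem g)))
  exact (mul_inv_eq_one.1 (hE.kern_inter h1 (mul_mem hgb (inv_mem hn)))).symm

/-- An element of the coset `c · kern H g` is conjugate to `c x`, where `x` lies in the core and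
commutes with `c`. -/
theorem EC.exists_conj_split (hE : EC p H) {g c y : G} (hc : c ∈ H) (hy : y ∈ kern p H g) :
    ∃ k ∈ kern p H g, ∃ x : G, x ∈ kern p H g ∧ Commute c x ∧
      k * (c * y) * k⁻¹ = c * x := by
  have hp : p.Prime := Fact.out
  have hzK : c * y ∈ pair H g := mul_mem (mem_pair hc) (kern_le g hy)
  obtain ⟨u, hu⟩ := CfsgLib.Blocks.exists_isPPart hp (c * y)
  have huK : u ∈ pair H g :=
    (Subgroup.zpowers_le.2 hzK) (CfsgLib.Blocks.IsPPart.mem_zpowers hp hu)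
  obtain ⟨v, huv, hcomm, ⟨e, he⟩, hv⟩ := hu
  have hvK : v ∈ pair H g := by
    rw [show v = u⁻¹ * (c * y) by rw [← huv, inv_mul_cancel_left]]
    exact mul_mem (inv_mem huK) hzK
  obtain ⟨k, hk, hkH⟩ := hE.exists_conj_le (R := Subgroup.zpowers u) (g := g)
    (IsPGroup.of_card (n := e) (by rw [Nat.card_zpowers, he])) (Subgroup.zpowers_le.2 huK)
  have hu' := hkH u (Subgroup.mem_zpowers u)
  haveI := CfsgLib.Solvable.pPrimeCore_normal p ↥(pair H g)
  -- the regular part lies in the core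
  have hvO : v ∈ kern p H g := by
    refine ⟨⟨v, hvK⟩, mem_of_regular_sup (R := Cfsg.pPrimeCore p ↥(pair H g))
      (hE.pgrp.comap_subtype (K := pair H g)) inferInstance ?_ ?_, rfl⟩
    · obtain ⟨o, ho, h, hh, e2⟩ := hE.decomp hvK
      obtain ⟨o', ho', rfl⟩ := ho
      rw [show (⟨v, hvK⟩ : pair H g) = o' * ⟨h, mem_pair hh⟩ from Subtype.ext e2]
      exact mul_mem (Subgroup.mem_sup_left ho')
        (Subgroup.mem_sup_right (Subgroup.mem_subgroupOf.2 hh))
    · rwa [Subgroup.orderOf_mk]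
  have hx : k * v * k⁻¹ ∈ kern p H g := mul_mem (mul_mem hk hvO) (inv_mem hk)
  have e2 : k * u * k⁻¹ * (k * v * k⁻¹) = k * (c * y) * k⁻¹ := by rw [← huv]; group
  have e3 : c⁻¹ * (k * u * k⁻¹) = 1 := by
    refine hE.kern_inter (g := g) ?_ (mul_mem (inv_mem hc) hu')
    have e4 : k * u * k⁻¹ = k * c * y * k⁻¹ * (k * v * k⁻¹)⁻¹ := by
      rw [eq_mul_inv_iff_mul_eq, e2]; group
    rw [e4, show c⁻¹ * (k * c * y * k⁻¹ * (k * v * k⁻¹)⁻¹) =
      c⁻¹ * k * c⁻¹⁻¹ * (y * k⁻¹ * (k * v * k⁻¹)⁻¹) by group]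
    exact mul_mem (kern_conj (inv_mem (mem_pair hc)) hk)
      (mul_mem (mul_mem hy (inv_mem hk)) (inv_mem hx))
  rw [inv_mul_eq_one] at e3
  refine ⟨k, hk, k * v * k⁻¹, hx, ?_, ?_⟩
  · rw [e3, commute_iff_eq,
      show k * u * k⁻¹ * (k * v * k⁻¹) = k * (u * v) * k⁻¹ by group, hcomm.eq]
    group
  · rw [← e2, ← e3]

/-- Extreme closure passes to subgroups containing `H`. -/
theorem EC.subgroupOf (hE : EC p H) {S : Subgroup G} (hS : H ≤ S) : EC p (H.subgroupOf S) := by
  refine ⟨hE.pgrp.comap_subtype, ⟨⟨fun x y => Subtype.ext (Subtype.ext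
    (hE.comm (Subgroup.mem_subgroupOf.1 x.2) (Subgroup.mem_subgroupOf.1 y.2)).eq)⟩⟩, fun g => ?_⟩
  apply le_antisymm
  · intro x hx
    refine Subgroup.mem_subgroupOf.2 (hE.normalizer_inter (g := (g : G)) ?_ ?_)
    · rw [Subgroup.mem_normalizer_iff]
      intro y
      have h2 := Subgroup.mem_normalizer_iff.1 hx.2
      refine ⟨fun hy => by
        simpa [Subgroup.mem_subgroupOf] using (h2 ⟨y, hS hy⟩).1 (Subgroup.mem_subgroupOf.2 hy),
        fun hy => ?_⟩
      have hyS : y ∈ S := by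
        simpa [mul_assoc] using mul_mem (mul_mem (inv_mem x.2) (hS hy)) x.2
      exact Subgroup.mem_subgroupOf.1 ((h2 ⟨y, hyS⟩).2 (Subgroup.mem_subgroupOf.2 (by simpa using hy)))
    · have h1 := Subgroup.mem_map_of_mem S.subtype hx.1
      rw [Subgroup.map_sup, Subgroup.map_map, Subgroup.map_subgroupOf_eq_of_le hS] at h1
      refine (sup_le_sup_left ?_ H) h1
      rintro _ ⟨y, hy, rfl⟩
      exact ⟨y, Subgroup.mem_subgroupOf.1 hy, rfl⟩
  · exact le_inf le_sup_left Subgroup.le_normalizer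

/-- Extreme closure passes to images under a condition on the pairs. -/
theorem EC.map_of (hE : EC p H) {Q : Type v} [Group Q] (π : G →* Q)
    (hπ : Function.Surjective π)
    (hker : ∀ g : G, ∀ k ∈ pair H g, π k ∈ Subgroup.normalizer ((H.map π : Subgroup Q) : Set Q) →
      π k ∈ H.map π) : EC p (H.map π) := by
  refine ⟨hE.pgrp.map π, ⟨⟨?_⟩⟩, fun q => ?_⟩
  · rintro ⟨_, a, ha, rfl⟩ ⟨_, b, hb, rfl⟩
    exact Subtype.ext (show π a * π b = π b * π a by rw [← map_mul, ← map_mul, (hE.comm ha hb).eq])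
  obtain ⟨g, rfl⟩ := hπ q
  refine le_antisymm ?_ (le_inf le_sup_left Subgroup.le_normalizer)
  have e : H.map π ⊔ (H.map π).map (MulAut.conj (π g)).toMonoidHom = (pair H g).map π := by
    rw [pair, Subgroup.map_sup, Subgroup.map_map, Subgroup.map_map]
    congr 2
    ext x
    simp
  rw [e]
  rintro _ ⟨⟨k, hk, rfl⟩, hn⟩
  exact hker g k hk hn

/-- Extreme closure passes to quotients. -/
theorem EC.quotient (hE : EC p H) (R : Subgroup G) [R.Normal] :
    EC p (H.map (QuotientGroup.mk' R)) := by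
  refine hE.map_of _ (QuotientGroup.mk'_surjective R) fun g k hk hn => ?_
  obtain ⟨o, ho, h, hh, rfl⟩ := hE.decomp hk
  have hno : QuotientGroup.mk' R o ∈
      Subgroup.normalizer ((H.map (QuotientGroup.mk' R) : Subgroup (G ⧸ R)) : Set (G ⧸ R)) := by
    rw [map_mul] at hn
    simpa using mul_mem hn (inv_mem (Subgroup.le_normalizer (Subgroup.mem_map_of_mem _ hh)))
  -- the commutators of `o` with `H` die in the quotient
  have hcm : ∀ a ∈ H, o⁻¹ * (a * o * a⁻¹) ∈ R ⊓ kern p H g := by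
    intro a ha
    have h1 : o⁻¹ * (a * o * a⁻¹) ∈ kern p H g :=
      mul_mem (inv_mem ho) (kern_conj (mem_pair ha) ho)
    refine ⟨?_, h1⟩
    refine mem_of_regular_sup hE.pgrp inferInstance ?_ (regular_of_mem_kern h1)
    have h2 := (Subgroup.mem_normalizer_iff.1 (inv_mem hno) _).1 (Subgroup.mem_map_of_mem _ ha)
    rw [inv_inv, ← map_inv, ← map_mul, ← map_mul] at h2
    obtain ⟨b, hb, hbe⟩ := h2
    rw [show o⁻¹ * (a * o * a⁻¹) = o⁻¹ * a * o * b⁻¹ * (b * a⁻¹) by group]
    refine mul_mem (Subgroup.mem_sup_left ?_) (Subgroup.mem_sup_right (mul_mem hb (inv_mem ha)))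
    rw [← QuotientGroup.eq_one_iff, QuotientGroup.mk_mul, QuotientGroup.mk_inv, mul_inv_eq_one]
    exact hbe.symm
  obtain ⟨d, hd, hd2⟩ := CfsgLib.Solvable.exists_fixed_mem_coset (K := kern p H g)
    (D := R ⊓ kern p H g) (le_normalizer_kern g) inf_le_right
    (Subgroup.le_normalizer_iff.2 fun a ha y hy => ⟨‹R.Normal›.conj_mem y hy.1 a,
      kern_conj (mem_pair ha) hy.2⟩) (hE.coprime_kern g) (Or.inl hE.isSolvable) ho hcm
  have hod : o * d = 1 := hE.kern_centralizer hd2.1 fun a ha =>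
    (Subgroup.mem_centralizer_iff.1 hd2.2 a ha).symm
  have hoR : o ∈ R := by rw [mul_eq_one_iff_eq_inv] at hod; rw [hod]; exact inv_mem hd.1
  refine ⟨h, hh, ?_⟩
  rw [map_mul, show QuotientGroup.mk' R o = 1 from (QuotientGroup.eq_one_iff o).2 hoR, one_mul]

theorem card_quotient_lt {N : Subgroup G} [N.Normal] (hN : N ≠ ⊥) :
    Nat.card (G ⧸ N) < Nat.card G := by
  rw [Subgroup.card_eq_card_quotient_mul_card_subgroup N]
  exact lt_mul_of_one_lt_right Nat.card_pos ((Subgroup.one_lt_card_iff_ne_bot N).2 hN)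

theorem card_subgroup_lt {S : Subgroup G} (hS : S ≠ ⊤) : Nat.card S < Nat.card G :=
  lt_of_le_of_ne S.card_le_card_group fun h => hS (Subgroup.eq_top_of_card_eq _ h)

end CfsgLib.ExtClosed
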