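import Cfsg.Agent.Lib.ExtClosed.Moments
import Mathlib.GroupTheory.SchurZassenhaus

/-!
# Extremely closed abelian `p`-subgroups, `p` odd: `G = N_G(H) O_{p'}(G)`

By induction on the order one reduces to the situation excluded by the moments of the principal
block over `H`.
-/

set_option autoImplicit false
set_option linter.style.haveILetI false
set_option linter.unusedSectionVars false
open Cfsg

universe u

namespace CfsgLib.ExtClosed

variable {G : Type u} [Group G] [Finite G] {p : ℕ} [Fact p.Prime] {H : Subgroup G}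

/-- A central `p`-subgroup of a group with trivial `p'`-core: the `p'`-core of the quotient is
trivial. -/
theorem pPrimeCore_quotient_central {Z : Subgroup G} [Z.Normal] (hZp : IsPGroup p Z)
    (hZc : Z ≤ Subgroup.center G) (hO : Cfsg.pPrimeCore p G = ⊥) :
    Cfsg.pPrimeCore p (G ⧸ Z) = ⊥ := by
  haveI := CfsgLib.Solvable.pPrimeCore_normal p (G ⧸ Z)
  set R := (Cfsg.pPrimeCore p (G ⧸ Z)).comap (QuotientGroup.mk' Z) with hR
  have hZR : Z ≤ R := le_trans (QuotientGroup.ker_mk' Z).ge (MonoidHom.ker_le_comap _ _)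
  have hrel : (Z.subgroupOf R).index = Nat.card (Cfsg.pPrimeCore p (G ⧸ Z)) := by
    show Z.relIndex R = _
    conv_lhs => rw [← QuotientGroup.ker_mk' Z, ← MonoidHom.comap_bot, Subgroup.relIndex_comap,
      hR, Subgroup.map_comap_eq_self_of_surjective (QuotientGroup.mk'_surjective Z),
      Subgroup.relIndex_bot_left]
  obtain ⟨n, hn⟩ := IsPGroup.iff_card.1 hZp
  have hcZ : Nat.card (Z.subgroupOf R) = p ^ n := by
    rw [Nat.card_congr (Subgroup.subgroupOfEquivOfLe hZR).toEquiv, hn]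
  have hcop : (Nat.card (Z.subgroupOf R)).Coprime (Z.subgroupOf R).index := by
    rw [hcZ, hrel]
    exact (CfsgLib.Solvable.pPrimeCore_card_coprime p _).symm.pow_left n
  obtain ⟨T, hT⟩ := Subgroup.exists_right_complement'_of_coprime hcop
  have hcT : (Nat.card T).Coprime p := by
    rw [← hT.symm.index_eq_card, hrel]
    exact CfsgLib.Solvable.pPrimeCore_card_coprime p _
  have hTn : T.Normal := by
    refine ⟨fun t ht r => ?_⟩
    have hr : r ∈ Z.subgroupOf R ⊔ T := hT.sup_eq_top ▸ Subgroup.mem_top r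
    obtain ⟨z, hz, s, hs, rfl⟩ := Subgroup.mem_sup_of_normal_left.1 hr
    have hzc : ∀ w : R, z * w = w * z := fun w =>
      Subtype.ext (Subgroup.mem_center_iff.1 (hZc (Subgroup.mem_subgroupOf.1 hz)) w).symm
    rw [show z * s * t * (z * s)⁻¹ = z * (s * t * s⁻¹) * z⁻¹ by group, hzc, mul_inv_cancel_right]
    exact mul_mem (mul_mem hs ht) (inv_mem hs)
  have hTG : (T.map R.subtype).Normal := by
    refine ⟨?_⟩
    rintro _ ⟨t, ht, rfl⟩ g
    refine ⟨⟨g * t * g⁻¹, (inferInstance : R.Normal).conj_mem _ t.2 g⟩, ?_, rfl⟩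
    refine mem_of_regular_sup (hZp.comap_subtype (K := R)) hTn ?_ ?_
    · show _ ∈ T ⊔ Z.subgroupOf R
      rw [sup_comm, hT.sup_eq_top]; exact Subgroup.mem_top _
    · rw [Subgroup.orderOf_mk,
        show orderOf (g * (t : G) * g⁻¹) = orderOf (t : G) from
          MulEquiv.orderOf_eq (MulAut.conj g) (t : G), Subgroup.orderOf_coe]
      exact not_dvd_orderOf_of_mem hcT ht
  have hT1 : T = ⊥ := by
    have h : T.map R.subtype ≤ ⊥ := hO ▸ CfsgLib.Solvable.le_pPrimeCore hTG (by
      rw [Subgroup.card_map_of_injective R.subtype_injective]; exact hcT)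
    exact (Subgroup.map_eq_bot_iff_of_injective _ R.subtype_injective).1 (le_bot_iff.1 h)
  refine Subgroup.card_eq_one.1 ?_
  rw [← hrel, hT.symm.index_eq_card, hT1, Subgroup.card_bot]

/-- The induction. -/
theorem sup_core_eq_top_aux (hp2 : p ≠ 2) : ∀ (n : ℕ) (G : Type u) [Group G] [Finite G]
    (H : Subgroup G), Nat.card G ≤ n → EC p H →
      Subgroup.normalizer (H : Set G) ⊔ Cfsg.pPrimeCore p G = ⊤ := by
  intro n
  induction n using Nat.strong_induction_on with
  | _ n ih =>
  intro G _ _ H hn hE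
  haveI := CfsgLib.Solvable.pPrimeCore_normal p G
  by_cases hO : Cfsg.pPrimeCore p G = ⊥
  swap
  · -- pass to the quotient by the core
    set O := Cfsg.pPrimeCore p G with hOdef
    have hlt := lt_of_lt_of_le (card_quotient_lt hO) hn
    have hQ := ih _ hlt (G ⧸ O) _ le_rfl (hE.quotient O)
    rw [CfsgLib.Solvable.pPrimeCore_quotient_eq_bot O hOdef, sup_bot_eq] at hQ
    rw [eq_top_iff]
    intro g _
    have hn' : QuotientGroup.mk' O g ∈
        Subgroup.normalizer ((H.map (QuotientGroup.mk' O) : Subgroup _) : Set (G ⧸ O)) :=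
      hQ ▸ Subgroup.mem_top _
    have hle : pair H g ≤ O ⊔ H := by
      refine sup_le le_sup_right ?_
      rintro _ ⟨h, hh, rfl⟩
      obtain ⟨b, hb, hbe⟩ := (Subgroup.mem_normalizer_iff.1 hn' _).1
        (Subgroup.mem_map_of_mem (QuotientGroup.mk' O) hh)
      rw [← map_inv, ← map_mul, ← map_mul] at hbe
      show g * h * g⁻¹ ∈ _
      rw [show g * h * g⁻¹ = g * h * g⁻¹ * b⁻¹ * b by group]
      refine mul_mem (Subgroup.mem_sup_left ?_) (Subgroup.mem_sup_right hb)
      rw [← QuotientGroup.eq_one_iff, QuotientGroup.mk_mul, QuotientGroup.mk_inv, mul_inv_eq_one]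
      exact hbe.symm
    have hσ : hE.sigma g ∈ O := mem_of_regular_sup hE.pgrp inferInstance
      (hle (kern_le g (hE.sigma_mem g))) (regular_of_mem_kern (hE.sigma_mem g))
    rw [← hE.sigma_mul_nu g]
    exact mul_mem (Subgroup.mem_sup_right hσ) (Subgroup.mem_sup_left (hE.nu_mem g))
  rw [hO, sup_bot_eq]
  by_cases hH : H = ⊥
  · subst hH
    exact Subgroup.normalizer_eq_top_iff.2 inferInstance
  set X := Subgroup.normalClosure (H : Set G) with hXdef
  have hHX : H ≤ X := Subgroup.subset_normalClosure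
  by_cases hX : X = ⊤
  swap
  · -- induction in the normal closure
    have hlt := lt_of_lt_of_le (card_subgroup_lt hX) hn
    have hI := ih _ hlt X _ le_rfl (hE.subgroupOf hHX)
    have hOX : Cfsg.pPrimeCore p X = ⊥ := by
      have h := CfsgLib.Solvable.map_subtype_pPrimeCore_le (p := p) X
      rw [hO, le_bot_iff] at h
      exact (Subgroup.map_eq_bot_iff_of_injective _ X.subtype_injective).1 h
    rw [hOX, sup_bot_eq] at hI
    have hXN : X ≤ Subgroup.normalizer (H : Set G) := by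
      refine Subgroup.le_normalizer_iff.2 fun x hx y hy => ?_
      have := (Subgroup.mem_normalizer_iff.1 (hI ▸ Subgroup.mem_top (⟨x, hx⟩ : X)) ⟨y, hHX hy⟩).1
        (Subgroup.mem_subgroupOf.2 hy)
      exact Subgroup.mem_subgroupOf.1 this
    rw [eq_top_iff]
    intro g _
    refine hE.mem_normalizer_of_conj fun h hh => hXN ?_
    exact Subgroup.normalClosure_normal.conj_mem h (hHX hh) g
  by_cases hZ : ∀ c ∈ H, c ≠ 1 → c ∉ Subgroup.center G
  swap
  · -- pass to the quotient by a central subgroup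
    push Not at hZ
    obtain ⟨c, hc, hc1, hcZ⟩ := hZ
    set Z := Subgroup.zpowers c with hZdef
    have hZc : Z ≤ Subgroup.center G := Subgroup.zpowers_le.2 hcZ
    haveI : Z.Normal := ⟨fun z hz g => by
      rw [Subgroup.mem_center_iff.1 (hZc hz) g, mul_inv_cancel_right]; exact hz⟩
    have hZH : Z ≤ H := Subgroup.zpowers_le.2 hc
    have hZne : Z ≠ ⊥ := fun h => hc1 (by simpa [hZdef] using h)
    have hlt := lt_of_lt_of_le (card_quotient_lt hZne) hn
    have hQ := ih _ hlt (G ⧸ Z) _ le_rfl (hE.quotient Z)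
    rw [pPrimeCore_quotient_central (hE.pgrp.to_le hZH) hZc hO, sup_bot_eq] at hQ
    rw [eq_top_iff]
    intro g _
    refine hE.mem_normalizer_of_conj fun h hh => Subgroup.le_normalizer ?_
    have h2 := (Subgroup.mem_normalizer_iff.1 (hQ ▸ Subgroup.mem_top (QuotientGroup.mk' Z g))
      _).1 (Subgroup.mem_map_of_mem (QuotientGroup.mk' Z) hh)
    rw [← map_inv, ← map_mul, ← map_mul, ← Subgroup.mem_comap,
      Subgroup.comap_map_eq_self (by rwa [QuotientGroup.ker_mk'])] at h2
    exact h2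
  -- the reduced case is impossible
  exfalso
  cases nonempty_fintype G
  refine no_reduced hE ?_ hp2 hH hX hO hZ
  intro c hc hc1 g x hx hcx
  set C := Subgroup.centralizer ({c} : Set G) with hC
  have hHC : H ≤ C := fun h hh => Subgroup.mem_centralizer_singleton_iff.2 (hE.comm hh hc).eq
  have hCt : C ≠ ⊤ := fun h => hZ c hc hc1 (Subgroup.mem_center_iff.2 fun y =>
    Subgroup.mem_centralizer_singleton_iff.1 (h ▸ Subgroup.mem_top y : y ∈ C))
  have hI := ih _ (lt_of_lt_of_le (card_subgroup_lt hCt) hn) C _ le_rfl (hE.subgroupOf hHC)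
  haveI := CfsgLib.Solvable.pPrimeCore_normal p C
  -- commutators of the centralizer with `H`
  have hcomm : ⁅kern p H g ⊓ C, H⁆ ≤
      (Cfsg.pPrimeCore p C ⊔ H.subgroupOf C).map C.subtype := by
    rw [Subgroup.commutator_le]
    intro y hy h hh
    obtain ⟨m, hm, o, ho, e⟩ := Subgroup.mem_sup_of_normal_right.1
      (hI ▸ Subgroup.mem_top (⟨y, hy.2⟩ : C))
    set η : C := ⟨h, hHC hh⟩ with hη
    refine ⟨(⟨y, hy.2⟩ : C) * η * (⟨y, hy.2⟩ : C)⁻¹ * η⁻¹, ?_, rfl⟩
    rw [← e,
      show m * o * η * (m * o)⁻¹ * η⁻¹ = m * (o * (η * o⁻¹ * η⁻¹)) * m⁻¹ * (m * η * m⁻¹ * η⁻¹) by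
        group]
    refine mul_mem (Subgroup.mem_sup_left ?_) (Subgroup.mem_sup_right ?_)
    · exact (inferInstance : (Cfsg.pPrimeCore p C).Normal).conj_mem _
        (mul_mem ho ((inferInstance : (Cfsg.pPrimeCore p C).Normal).conj_mem _ (inv_mem ho) η)) m
    · have hη' : η ∈ H.subgroupOf C := Subgroup.mem_subgroupOf.2 hh
      exact mul_mem ((Subgroup.mem_normalizer_iff.1 hm η).1 hη') (inv_mem hη')
  have hAK : H ≤ Subgroup.normalizer ((kern p H g ⊓ C : Subgroup G) : Set G) :=
    Subgroup.le_normalizer_iff.2 fun a ha y hy => ⟨kern_conj (mem_pair ha) hy.1,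
      C.mul_mem (C.mul_mem (hHC ha) hy.2) (C.inv_mem (hHC ha))⟩
  have hsup := CfsgLib.Solvable.commutator_sup_centralizer (K := kern p H g ⊓ C) hAK
    ((hE.coprime_kern g).coprime_dvd_right (Subgroup.card_dvd_of_le inf_le_left))
    (Or.inl hE.isSolvable)
  have hfix : (kern p H g ⊓ C) ⊓ Subgroup.centralizer (H : Set G) = ⊥ := by
    rw [eq_bot_iff]
    rintro y ⟨hy, hyc⟩
    exact hE.kern_centralizer hy.1 fun h hh => (Subgroup.mem_centralizer_iff.1 hyc h hh).symm
  rw [hfix, sup_bot_eq] at hsup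
  have hxC : x ∈ kern p H g ⊓ C :=
    ⟨hx, Subgroup.mem_centralizer_singleton_iff.2 hcx.symm.eq⟩
  obtain ⟨x', hx', rfl⟩ := hcomm (hsup.symm ▸ hxC)
  refine ⟨x', mem_of_regular_sup (hE.pgrp.comap_subtype (K := C)) inferInstance hx' ?_, rfl⟩
  have := regular_of_mem_kern hx
  rwa [Subgroup.coe_subtype, Subgroup.orderOf_coe] at this

/-- `G = N_G(H) O_{p'}(G)`. -/
theorem sup_core_eq_top (hE : EC p H) (hp2 : p ≠ 2) :
    Subgroup.normalizer (H : Set G) ⊔ Cfsg.pPrimeCore p G = ⊤ :=
  sup_core_eq_top_aux hp2 _ G H le_rfl hE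

end CfsgLib.ExtClosed
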