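import Cfsg.Agent.Lib.Glauberman.Transfer
import Cfsg.Agent.Lib.CharTools.Basic
import Cfsg.Agent.Lib.Char.Kernel
import Cfsg.Agent.Lib.Solvable.CoprimeAction

/-!
# Invariant characters of a coprime action: two counting consequences

If a `p`-group `S` acts coprimely on `C` and `N` is an invariant normal subgroup with trivial
action on `C/N` and without fixed points, then every invariant irreducible character of `C` is
trivial on `N`.  A nontrivial fixed point is moved by some invariant irreducible character.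
-/

set_option autoImplicit false
set_option linter.style.haveILetI false
open Cfsg

universe u

namespace CfsgLib.ExtClosed

open CfsgLib.Glauberman

variable {C S : Type u} [Group C] [Finite C] [Group S] [Finite S] (φ : S →* MulAut C) {p : ℕ}
  [Fact p.Prime]

/-- Invariant characters are trivial on a normal subgroup without fixed points modulo which the
action is trivial. -/
theorem inv_trivial_on (hS : IsPGroup p S) (hpC : ¬ p ∣ Nat.card C) (N : Subgroup C) [N.Normal]
    (hact : ∀ (s : S) (c : C), c⁻¹ * φ s c ∈ N) (hfix : N ⊓ fixedSub φ = ⊥)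
    (htop : N ⊔ fixedSub φ = ⊤) {χ : IrrCharacter C} (hχ : Inv φ (χ : C → ℂ)) {n : C}
    (hn : n ∈ N) : (χ : C → ℂ) n = (χ : C → ℂ) 1 := by
  classical
  cases nonempty_fintype C
  haveI := Fintype.ofFinite (fixedSub φ)
  have hcard := card_inv φ hS hpC
  let f : fixedSub φ →* C ⧸ N := (QuotientGroup.mk' N).comp (fixedSub φ).subtype
  have hf : Function.Bijective f := by
    refine ⟨(injective_iff_map_eq_one f).2 fun x hx => ?_, fun q => ?_⟩
    · have h1 : (x : C) ∈ N ⊓ fixedSub φ := ⟨(QuotientGroup.eq_one_iff _).1 hx, x.2⟩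
      rw [hfix, Subgroup.mem_bot] at h1
      exact Subtype.ext h1
    · obtain ⟨c, rfl⟩ := QuotientGroup.mk_surjective q
      obtain ⟨y, hy, z, hz, rfl⟩ := Subgroup.mem_sup_of_normal_left.1
        (htop ▸ Subgroup.mem_top c : c ∈ N ⊔ fixedSub φ)
      refine ⟨⟨z, hz⟩, ?_⟩
      show (z : C ⧸ N) = _
      rw [QuotientGroup.mk_mul, (QuotientGroup.eq_one_iff y).2 hy, one_mul]
  have hsub : ∀ ψ : IrrCharacter C, (∀ m ∈ N, (ψ : C → ℂ) m = (ψ : C → ℂ) 1) →
      Inv φ (ψ : C → ℂ) := fun ψ hψ s c => by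
    have := CfsgLib.CharTools.mul_ker (CfsgLib.Char.IsIrrCharacter.isCharacter ψ.2)
      (hψ _ (hact s c)) c
    rwa [mul_inv_cancel_left] at this
  let i : {ψ : IrrCharacter C // ∀ m ∈ N, (ψ : C → ℂ) m = (ψ : C → ℂ) 1} →
      {ψ : IrrCharacter C // Inv φ (ψ : C → ℂ)} := fun ψ => ⟨ψ.1, hsub ψ.1 ψ.2⟩
  have hi : Function.Bijective i := by
    refine (Nat.bijective_iff_injective_and_card i).2 ⟨fun a b h => Subtype.ext
      (Subtype.mk.inj h), ?_⟩
    rw [hcard, ← Nat.card_congr (CfsgLib.CharTools.quotientEquiv N),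
      Nat.card_congr (irrEquiv (MulEquiv.ofBijective f hf))]
  obtain ⟨ψ, hψ⟩ := hi.2 ⟨χ, hχ⟩
  have e : ψ.1 = χ := congrArg Subtype.val hψ
  exact e ▸ ψ.2 n hn

/-- A nontrivial fixed point is moved by an invariant irreducible character. -/
theorem exists_inv_ne (hS : IsPGroup p S) (hpC : ¬ p ∣ Nat.card C) {l : C} (hl : l ∈ fixedSub φ)
    (hl1 : l ≠ 1) :
    ∃ χ : IrrCharacter C, Inv φ (χ : C → ℂ) ∧ ∃ x ∈ fixedSub φ, (χ : C → ℂ) x ≠ (χ : C → ℂ) 1 := by
  classical
  cases nonempty_fintype C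
  haveI := Fintype.ofFinite (fixedSub φ)
  obtain ⟨n, σ, hσ, hσl⟩ := CfsgLib.CharKernel.exists_irreducible_apply_ne_one
    (⟨l, hl⟩ : fixedSub φ) (fun h => hl1 (congrArg Subtype.val h))
  set β : IrrCharacter (fixedSub φ) := ⟨σ.character, n, σ, hσ, rfl⟩ with hβ
  obtain ⟨χ, hχ, m, hm, hpm⟩ := corr_surjective φ hS hpC β
  refine ⟨χ, hχ, ?_⟩
  by_contra hcon
  push Not at hcon
  have hne : β ≠ CfsgLib.Char.principalIrr := by
    intro e
    apply hσl
    have h1 : σ.character ⟨l, hl⟩ = σ.character 1 :=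
      (congrFun (congrArg Subtype.val e) ⟨l, hl⟩).trans
        (congrFun (congrArg Subtype.val e) 1).symm
    rw [Representation.char_one, CfsgLib.Char.character_eq_degree_iff] at h1
    exact h1
  have h0 : (fun c : fixedSub φ => (χ : C → ℂ) c) =
      (χ : C → ℂ) 1 • ((CfsgLib.Char.principalIrr : IrrCharacter (fixedSub φ)) :
        fixedSub φ → ℂ) := by
    funext c
    simp [CfsgLib.Char.principalIrr_apply, hcon c c.2]
  rw [h0, CfsgLib.Char.classInner_smul_left, CfsgLib.Char.classInner_irrCharacter,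
    if_neg hne.symm, mul_zero] at hm
  exact hpm (by rw [Nat.cast_eq_zero.1 hm.symm]; exact dvd_zero p)

end CfsgLib.ExtClosed
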