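import Cfsg.Agent.Lib.Glauberman.FixedPointFree

/-!
# An invariant character under an automorphism of prime order

If `a` has prime order `p` and normalizes the `p'`-group `M`, an `a`-invariant irreducible
character of `M` extends to `Γ = M ⟨a⟩`, and on `C_M(a) s`, for `s` in `⟨a⟩#`, the extension is a
multiple of modulus one of a single irreducible character of `C_M(a)`.
-/

set_option autoImplicit false
set_option linter.style.haveILetI false
open Cfsg

universe u

namespace CfsgLib.ExtClosed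

open CfsgLib.Glauberman

variable {G : Type u} [Group G] [Finite G] {p : ℕ} [Fact p.Prime]

theorem value_of_invariant (M : Subgroup G) [M.Normal] {a : G} (ha : orderOf a = p)
    (hM : ¬ p ∣ Nat.card M) (θ : IrrCharacter M)
    (hinv : ∀ m m' : M, (m' : G) = a * m * a⁻¹ → (θ : M → ℂ) m' = (θ : M → ℂ) m) :
    ∃ χ : IrrCharacter ↥(M ⊔ Subgroup.zpowers a),
      (∀ (x : ↥(M ⊔ Subgroup.zpowers a)) (m : M), (x : G) = m →
        (χ : ↥(M ⊔ Subgroup.zpowers a) → ℂ) x = (θ : M → ℂ) m) ∧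
      ∃ β : IrrCharacter ↥(M ⊓ Subgroup.centralizer ({a} : Set G)),
        ∀ s ∈ Subgroup.zpowers a, s ≠ 1 → ∃ e : ℂ, ‖e‖ = 1 ∧
          ∀ (c : ↥(M ⊓ Subgroup.centralizer ({a} : Set G))) (x : ↥(M ⊔ Subgroup.zpowers a)),
            (x : G) = c * s → (χ : ↥(M ⊔ Subgroup.zpowers a) → ℂ) x =
              e * (β : ↥(M ⊓ Subgroup.centralizer ({a} : Set G)) → ℂ) c := by
  classical
  have hp : p.Prime := Fact.out
  set Γ := M ⊔ Subgroup.zpowers a with hΓ
  set C₀ := M ⊓ Subgroup.centralizer ({a} : Set G) with hC₀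
  have hMΓ : M ≤ Γ := le_sup_left
  have hSΓ : Subgroup.zpowers a ≤ Γ := le_sup_right
  have hCΓ : C₀ ≤ Γ := inf_le_left.trans hMΓ
  set M' := M.subgroupOf Γ with hM'
  set S' := (Subgroup.zpowers a).subgroupOf Γ with hS'
  set C' := C₀.subgroupOf Γ with hC'
  have hcz : ∀ x : G, x ∈ Subgroup.zpowers a → ∀ y : G, Commute y a → Commute y x := by
    intro x hx y hy
    obtain ⟨j, rfl⟩ := Subgroup.mem_zpowers_iff.1 hx
    exact hy.zpow_right j
  have D : CyclicSetting M' S' C' := by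
    refine ⟨fun s _ g hg => ?_, ?_, ?_, ?_, ?_⟩
    · exact Subgroup.mem_subgroupOf.2
        ((inferInstance : M.Normal).conj_mem _ (Subgroup.mem_subgroupOf.1 hg) (s : G))
    · rw [Nat.card_congr (Subgroup.subgroupOfEquivOfLe hMΓ).toEquiv,
        Nat.card_congr (Subgroup.subgroupOfEquivOfLe hSΓ).toEquiv, Nat.card_zpowers, ha]
      exact (hp.coprime_iff_not_dvd.2 hM).symm
    · apply Subgroup.map_injective Γ.subtype_injective
      rw [Subgroup.map_sup, Subgroup.map_subgroupOf_eq_of_le hMΓ,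
        Subgroup.map_subgroupOf_eq_of_le hSΓ, ← MonoidHom.range_eq_map, Subgroup.range_subtype]
    · refine isCyclic_of_prime_card (p := p) ?_
      rw [Nat.card_congr (Subgroup.subgroupOfEquivOfLe hSΓ).toEquiv, Nat.card_zpowers, ha]
    · ext x
      simp only [hC', hC₀, hM', Subgroup.mem_subgroupOf, Subgroup.mem_inf,
        Subgroup.mem_centralizer_iff]
      refine and_congr_right fun _ => ⟨fun h s hs => Subtype.ext ?_, fun h y hy => ?_⟩
      · exact (hcz _ (Subgroup.mem_subgroupOf.1 hs) _ (h a (Set.mem_singleton a)).symm).symm.eq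
      · rw [Set.mem_singleton_iff] at hy
        subst hy
        exact congrArg Subtype.val (h ⟨y, hSΓ (Subgroup.mem_zpowers y)⟩
          (Subgroup.mem_subgroupOf.2 (Subgroup.mem_zpowers y)))
  cases nonempty_fintype Γ
  haveI := Fintype.ofFinite M'
  haveI := Fintype.ofFinite C'
  set θ' : IrrCharacter M' := irrEquiv (Subgroup.subgroupOfEquivOfLe hMΓ) θ with hθ'
  have hθinv : ∀ (x : G), x ∈ Subgroup.zpowers a →
      ∀ m m' : M, (m' : G) = x * m * x⁻¹ → (θ : M → ℂ) m' = (θ : M → ℂ) m := by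
    intro x hx
    obtain ⟨j, rfl⟩ := (Submonoid.mem_powers_iff _ _).1
      ((isOfFinOrder_of_finite a).mem_powers_iff_mem_zpowers.2 hx)
    induction j with
    | zero => intro m m' h; rw [show m' = m from Subtype.ext (by simpa using h)]
    | succ j ih =>
      intro m m' h
      have hy : a ^ j * (m : G) * (a ^ j)⁻¹ ∈ M := (inferInstance : M.Normal).conj_mem _ m.2 _
      rw [← ih (Subgroup.pow_mem _ (Subgroup.mem_zpowers a) j) m ⟨_, hy⟩ rfl]
      refine hinv ⟨_, hy⟩ m' ?_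
      rw [h, pow_succ']; group
  have hInv : Inv (conjHom M' S' D.norm) (θ' : M' → ℂ) := by
    refine (inv_conjHom_iff M' S' D.norm _).1 fun s hs g g' h => ?_
    rw [hθ', irrEquiv_apply, irrEquiv_apply]
    refine hθinv (s : G) (Subgroup.mem_subgroupOf.1 hs) _ _ ?_
    have := congrArg Subtype.val h
    simpa using this
  obtain ⟨χh, hcan⟩ := D.exists_canonExt hInv
  obtain ⟨β, ε₀, hβ, -⟩ := D.exists_signRel hcan
  have hfpf : ∀ x ∈ S', x ≠ 1 → M' ⊓ Subgroup.centralizer ({x} : Set Γ) = C' := by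
    intro x hx hx1
    ext y
    simp only [hC', hC₀, hM', Subgroup.mem_subgroupOf, Subgroup.mem_inf,
      Subgroup.mem_centralizer_singleton_iff]
    refine and_congr_right fun _ => ⟨fun h => ?_, fun h => ?_⟩
    · have hx' := Subgroup.mem_subgroupOf.1 hx
      obtain ⟨j, hj⟩ := Subgroup.mem_zpowers_iff.1 hx'
      have hgen : a ∈ Subgroup.zpowers (x : G) := by
        have hle : Subgroup.zpowers (x : G) ≤ Subgroup.zpowers a := Subgroup.zpowers_le.2 hx'
        refine (Subgroup.eq_of_le_of_card_ge hle ?_).symm ▸ Subgroup.mem_zpowers a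
        rw [Nat.card_zpowers, Nat.card_zpowers, ha]
        refine Nat.le_of_dvd (orderOf_pos _) ?_
        have hd : orderOf (x : G) ∣ p := by
          rw [← hj, ← ha, ← Nat.card_zpowers a, ← Subgroup.orderOf_mk (a ^ j)
            (Subgroup.zpow_mem _ (Subgroup.mem_zpowers a) j)]
          exact orderOf_dvd_natCard _
        rcases (Nat.dvd_prime hp).1 hd with h1 | h1
        · exact absurd (Subtype.ext (orderOf_eq_one_iff.1 h1)) hx1
        · rw [h1]
      obtain ⟨i, hi⟩ := Subgroup.mem_zpowers_iff.1 hgen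
      have hc : Commute (y : G) (x : G) := congrArg Subtype.val h
      rw [← hi]
      exact (hc.zpow_right i).eq
    · exact Subtype.ext (hcz _ (Subgroup.mem_subgroupOf.1 hx) _ h).eq
  obtain ⟨ε, hε, ⟨μ, hμ, hμ1, hμ2, hval⟩, -⟩ := D.fpf_restriction hcan hfpf hβ
  refine ⟨χh, fun x m h => ?_, irrEquiv (Subgroup.subgroupOfEquivOfLe hCΓ).symm β,
    fun s hs hs1 => ?_⟩
  · have hx : x ∈ M' := Subgroup.mem_subgroupOf.2 (h ▸ m.2)
    rw [hcan.1 ⟨x, hx⟩, hθ', irrEquiv_apply,
      show (Subgroup.subgroupOfEquivOfLe hMΓ ⟨x, hx⟩ : M) = m from Subtype.ext h]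
  · set s' : S' := ⟨⟨s, hSΓ hs⟩, Subgroup.mem_subgroupOf.2 hs⟩ with hs'
    have hs'1 : s' ≠ 1 := fun e => hs1 (congrArg (fun t : S' => ((t : Γ) : G)) e)
    refine ⟨(ε : ℂ) * μ s', ?_, fun c x h => ?_⟩
    · have h1 : ‖μ s'‖ * ‖μ s'‖ = 1 := by rw [← norm_mul, hμ2, norm_one]
      have h2 : ‖μ s'‖ = 1 := by nlinarith [norm_nonneg (μ s')]
      rw [norm_mul, h2, mul_one]
      rcases hε with rfl | rfl <;> simp
    · have hx : x = ((⟨⟨(c : G), hCΓ c.2⟩, Subgroup.mem_subgroupOf.2 c.2⟩ : C') : Γ) * s' :=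
        Subtype.ext h
      rw [hx, hval _ _ hs'1, irrEquiv_apply]
      have : (⟨⟨(c : G), hCΓ c.2⟩, Subgroup.mem_subgroupOf.2 c.2⟩ : C') =
          (Subgroup.subgroupOfEquivOfLe hCΓ).symm c := Subtype.ext (Subtype.ext rfl)
      rw [this]
      ring

end CfsgLib.ExtClosed
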