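import Cfsg.Agent.Lib.ExtClosed.Basic
import Cfsg.Agent.Lib.ExtClosed.FixedChars
import Cfsg.Agent.Lib.ExtClosed.OrderP
import Cfsg.Agent.Lib.CharDeep.Gallagher
import Cfsg.Agent.Lib.Blk83.PairCount

/-!
# Extremely closed abelian `p`-subgroups of `M H` fix no point of `[M, H]`

If `G = M H` with `M` a normal `p'`-subgroup and `M = [M, H]`, then `C_M(H) = 1`: otherwise an
invariant character of `M` moving a fixed point has, by the averaging identity in `M ⟨a⟩` for an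
element `a` of order `p` of `H`, all commutators `[M, a]` in its kernel.
-/

set_option autoImplicit false
set_option linter.style.haveILetI false
set_option linter.unusedSectionVars false
open Cfsg
open scoped ComplexConjugate

universe u

namespace CfsgLib.ExtClosed

open CfsgLib.Glauberman

/-- The statement proved by induction. -/
def FixStatement (p : ℕ) (n : ℕ) : Prop :=
  ∀ (G : Type u) [Group G] [Finite G] (H M : Subgroup G), Nat.card G ≤ n → EC p H → M.Normal →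
    (Nat.card M).Coprime p → M ⊔ H = ⊤ → ⁅M, H⁆ = M → M ⊓ Subgroup.centralizer (H : Set G) = ⊥

variable {G : Type u} [Group G] [Finite G] {p : ℕ} [Fact p.Prime] {H M : Subgroup G}

/-- The situation in a quotient. -/
theorem fixed_mem_of_quotient {n : ℕ} (hn : Nat.card G ≤ n)
    (ih : ∀ m < n, FixStatement.{u} p m) (hE : EC p H) (hM : M.Normal)
    (hcop : (Nat.card M).Coprime p) (htop : M ⊔ H = ⊤) (hcomm : ⁅M, H⁆ = M)
    (R : Subgroup G) [R.Normal] (hR : R ≠ ⊥) {l : G} (hl : l ∈ M)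
    (hlH : ∀ h ∈ H, Commute l h) : l ∈ R := by
  set π := QuotientGroup.mk' R with hπ
  have hπs : Function.Surjective π := QuotientGroup.mk'_surjective R
  have h := ih _ (lt_of_lt_of_le (card_quotient_lt hR) hn) (G ⧸ R) (H.map π) (M.map π) le_rfl
    (hE.quotient R) (hM.map π hπs) (hcop.coprime_dvd_left (Subgroup.card_map_dvd _ _))
    (by rw [← Subgroup.map_sup, htop, Subgroup.map_top_of_surjective π hπs])
    (by rw [← Subgroup.map_commutator, hcomm])
  have hl' : π l ∈ M.map π ⊓ Subgroup.centralizer ((H.map π : Subgroup (G ⧸ R)) : Set (G ⧸ R)) := by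
    refine ⟨Subgroup.mem_map_of_mem _ hl, Subgroup.mem_centralizer_iff.2 ?_⟩
    rintro _ ⟨y, hy, rfl⟩
    rw [← map_mul, ← map_mul, (hlH y hy).eq]
  rw [h, Subgroup.mem_bot] at hl'
  exact (QuotientGroup.eq_one_iff l).1 hl'

/-- The subgroup `⁅C_M(a), H⁆ H` is smaller and so `C_M(a)` splits over `⁅C_M(a), H⁆`. -/
theorem split_centralizer {n : ℕ} (hn : Nat.card G ≤ n) (ih : ∀ m < n, FixStatement.{u} p m)
    (hE : EC p H) (hcop : (Nat.card M).Coprime p)
    {C : Subgroup G} (hC : C ≤ M) (hCM : C ≠ M) (hHC : H ≤ Subgroup.normalizer (C : Set G)) :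
    ⁅C, H⁆ ⊓ Subgroup.centralizer (H : Set G) = ⊥ ∧
      ⁅C, H⁆ ⊔ (C ⊓ Subgroup.centralizer (H : Set G)) = C := by
  have hcopC : (Nat.card H).Coprime (Nat.card C) := by
    obtain ⟨k, hk⟩ := IsPGroup.iff_card.1 hE.pgrp
    rw [hk]
    exact ((hcop.coprime_dvd_left (Subgroup.card_dvd_of_le hC)).symm).pow_left k
  set N := ⁅C, H⁆ with hN
  have hNC : N ≤ C := CfsgLib.Solvable.commutator_le_of_normalizes hHC
  have hHN : H ≤ Subgroup.normalizer (N : Set G) :=
    CfsgLib.Solvable.le_normalizer_commutator_right C H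
  refine ⟨?_, CfsgLib.Solvable.commutator_sup_centralizer hHC hcopC (Or.inl hE.isSolvable)⟩
  set U := N ⊔ H with hU
  have hUt : U ≠ ⊤ := by
    intro h
    refine hCM (le_antisymm hC fun m hm => ?_)
    have hm' : m ∈ C ⊔ H := sup_le_sup_right hNC H (h ▸ Subgroup.mem_top m : m ∈ U)
    rw [← SetLike.mem_coe, Subgroup.coe_mul_of_right_le_normalizer_left C H hHC] at hm'
    obtain ⟨c, hc, h', hh', rfl⟩ := hm'
    have hh1 : h' = 1 := eq_one_of_regular hE.pgrp hh' (not_dvd_orderOf_of_mem hcop (by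
      simpa using M.mul_mem (M.inv_mem (hC hc)) hm))
    simpa [hh1] using hc
  have hNU : N ≤ U := le_sup_left
  have hHU : H ≤ U := le_sup_right
  have h := ih _ (lt_of_lt_of_le (card_subgroup_lt hUt) hn) U (H.subgroupOf U) (N.subgroupOf U)
    le_rfl (hE.subgroupOf hHU) ?_ ?_ ?_ ?_
  · rw [eq_bot_iff]
    rintro y ⟨hy, hyH⟩
    have hy' : (⟨y, hNU hy⟩ : U) ∈
        N.subgroupOf U ⊓ Subgroup.centralizer ((H.subgroupOf U : Subgroup U) : Set U) :=
      ⟨Subgroup.mem_subgroupOf.2 hy, Subgroup.mem_centralizer_iff.2 fun z hz =>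
        Subtype.ext (Subgroup.mem_centralizer_iff.1 hyH z (Subgroup.mem_subgroupOf.1 hz))⟩
    rw [h, Subgroup.mem_bot] at hy'
    exact congrArg Subtype.val hy'
  · exact (Subgroup.normal_subgroupOf_iff_le_normalizer hNU).2
      (sup_le Subgroup.le_normalizer hHN)
  · rw [Nat.card_congr (Subgroup.subgroupOfEquivOfLe hNU).toEquiv]
    exact hcop.coprime_dvd_left (Subgroup.card_dvd_of_le (hNC.trans hC))
  · apply Subgroup.map_injective U.subtype_injective
    rw [Subgroup.map_sup, Subgroup.map_subgroupOf_eq_of_le hNU,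
      Subgroup.map_subgroupOf_eq_of_le hHU, ← MonoidHom.range_eq_map, Subgroup.range_subtype]
  · apply Subgroup.map_injective U.subtype_injective
    rw [Subgroup.map_commutator, Subgroup.map_subgroupOf_eq_of_le hNU,
      Subgroup.map_subgroupOf_eq_of_le hHU]
    exact CfsgLib.Solvable.commutator_commutator_eq hHC hcopC (Or.inl hE.isSolvable)

/-- An invariant irreducible character of `M` has the commutators with `a` in its kernel. -/
theorem commutator_mem_kernel {n : ℕ} (hn : Nat.card G ≤ n) (ih : ∀ m < n, FixStatement.{u} p m)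
    (hE : EC p H) (hp2 : p ≠ 2) [M.Normal] (hcop : (Nat.card M).Coprime p) (htop : M ⊔ H = ⊤)
    {a : G} (ha : a ∈ H) (hao : orderOf a = p) (hna : M ⊓ Subgroup.centralizer ({a} : Set G) ≠ M)
    (θ : IrrCharacter M)
    (hθ : ∀ h ∈ H, ∀ m m' : M, (m' : G) = h * m * h⁻¹ → (θ : M → ℂ) m' = (θ : M → ℂ) m)
    (m : M) {z : M} (hz : (z : G) = (m : G) * a * (m : G)⁻¹ * a⁻¹) :
    (θ : M → ℂ) z = (θ : M → ℂ) 1 := by
  classical
  have hp : p.Prime := Fact.out
  have hpM : ¬ p ∣ Nat.card M := hp.coprime_iff_not_dvd.1 hcop.symm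
  have hv := value_of_invariant M hao hpM θ (hθ a ha)
  set Γ := M ⊔ Subgroup.zpowers a with hΓ
  set C := M ⊓ Subgroup.centralizer ({a} : Set G) with hC
  obtain ⟨χ, hres, β, hval⟩ := hv
  have hMΓ : M ≤ Γ := le_sup_left
  have haΓ : a ∈ Γ := Subgroup.mem_sup_right (Subgroup.mem_zpowers a)
  cases nonempty_fintype Γ
  have hcl := CfsgLib.Char.IsIrrCharacter.isClassFunction χ.2
  have ha1 : a ≠ 1 := fun h => hp.ne_one (by rw [← hao, h, orderOf_one])
  have ha2 : a * a ≠ 1 := fun h => hp2 (by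
    have hd : orderOf a ∣ 2 := orderOf_dvd_of_pow_eq_one (by rwa [pow_two])
    rw [hao] at hd
    exact (Nat.prime_dvd_prime_iff_eq hp Nat.prime_two).1 hd)
  -- `β` is invariant under `H`
  have hHC : H ≤ Subgroup.normalizer (C : Set G) := Subgroup.le_normalizer_iff.2 fun h hh y hy => by
    refine ⟨(inferInstance : M.Normal).conj_mem y hy.1 h, ?_⟩
    have hc : Commute y a := Subgroup.mem_centralizer_singleton_iff.1 hy.2
    have hh' : Commute h a := hE.comm hh ha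
    exact Subgroup.mem_centralizer_singleton_iff.2
      ((hh'.mul_left hc).mul_left hh'.inv_left).eq
  have hβinv : ∀ h ∈ H, ∀ c c' : C, (c' : G) = h * c * h⁻¹ →
      (β : C → ℂ) c' = (β : C → ℂ) c := by
    intro h hh c c' hcc
    have hh' : Commute h a := hE.comm hh ha
    have hΓn : h ∈ Subgroup.normalizer (Γ : Set G) := by
      rw [Subgroup.mem_normalizer_iff_map_conj_eq, hΓ, Subgroup.map_sup,
        MonoidHom.map_zpowers, Subgroup.Normal.map_conj_eq]
      show M ⊔ Subgroup.zpowers (h * a * h⁻¹) = _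
      rw [hh'.eq, mul_inv_cancel_right]
    let α : Γ ≃* Γ :=
      { toFun := fun x => ⟨h * x * h⁻¹, (Subgroup.mem_normalizer_iff.1 hΓn x).1 x.2⟩
        invFun := fun x => ⟨h⁻¹ * x * h, by
          simpa using (Subgroup.mem_normalizer_iff.1 (inv_mem hΓn) x).1 x.2⟩
        left_inv := fun x => Subtype.ext (by simp [mul_assoc])
        right_inv := fun x => Subtype.ext (by simp [mul_assoc])
        map_mul' := fun x y => Subtype.ext (by simp [mul_assoc]) }
    haveI : (M.subgroupOf Γ).Normal := Subgroup.normal_subgroupOf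
    haveI := Fintype.ofFinite (M.subgroupOf Γ)
    have hN : Cfsg.IsIrrCharacter (M.subgroupOf Γ)
        (fun x : M.subgroupOf Γ => (χ : Γ → ℂ) x) := by
      rw [show (fun x : M.subgroupOf Γ => (χ : Γ → ℂ) x) =
        ((irrEquiv (Subgroup.subgroupOfEquivOfLe hMΓ) θ : IrrCharacter (M.subgroupOf Γ)) :
          M.subgroupOf Γ → ℂ) from funext fun x => hres x _ rfl]
      exact Subtype.prop _
    obtain ⟨lin, hlin, hlinχ⟩ := CfsgLib.CharDeep.Gal.exists_linear_of_res_eq (M.subgroupOf Γ)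
      χ.2 (irrEquiv α χ).2 hN (fun x => by
        rw [irrEquiv_apply, hres x ⟨_, Subgroup.mem_subgroupOf.1 x.2⟩ rfl,
          hres (α x) ⟨h * (x : Γ) * h⁻¹,
            (inferInstance : M.Normal).conj_mem _ (Subgroup.mem_subgroupOf.1 x.2) h⟩ rfl]
        exact hθ h hh _ _ rfl)
    obtain ⟨e, he, hev⟩ := hval a (Subgroup.mem_zpowers a) ha1
    have he0 : e ≠ 0 := fun h0 => by rw [h0, norm_zero] at he; exact zero_ne_one he
    set la := (lin ⟨a, haΓ⟩ : ℂ) with hla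
    have key : ∀ d d' : C, (d' : G) = h * d * h⁻¹ →
        (β : C → ℂ) d' = la * (β : C → ℂ) d := by
      intro d d' hdd
      have h1 := congrFun hlinχ ⟨(d : G) * a, mul_mem (hMΓ d.2.1) haΓ⟩
      rw [irrEquiv_apply, hev d' (α ⟨(d : G) * a, _⟩) (by
        show h * ((d : G) * a) * h⁻¹ = _
        rw [hdd, show h * ((d : G) * a) * h⁻¹ = h * d * (a * h⁻¹) by group, ← hh'.inv_left.eq]
        group), hev d _ rfl] at h1
      have h2 : lin ⟨(d : G) * a, mul_mem (hMΓ d.2.1) haΓ⟩ = lin ⟨a, haΓ⟩ := by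
        rw [show (⟨(d : G) * a, mul_mem (hMΓ d.2.1) haΓ⟩ : Γ) = ⟨(d : G), hMΓ d.2.1⟩ * ⟨a, haΓ⟩
          from rfl, map_mul, hlin ⟨⟨(d : G), hMΓ d.2.1⟩, Subgroup.mem_subgroupOf.2 d.2.1⟩, one_mul]
      rw [h2, ← hla] at h1
      refine mul_left_cancel₀ he0 ?_
      rw [h1]; ring
    have hla1 : la = 1 := by
      have h1 := key 1 1 (by simp)
      exact (mul_eq_right₀ (CfsgLib.Char.IsIrrCharacter.apply_one_ne_zero β.2)).1 h1.symm
    rw [key c c' hcc, hla1, one_mul]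
  -- `β` is trivial on `⁅C, H⁆`
  obtain ⟨hfix, hsup⟩ := split_centralizer hn ih hE hcop (C := C) inf_le_left hna hHC
  have hNC : ⁅C, H⁆ ≤ C := CfsgLib.Solvable.commutator_le_of_normalizes hHC
  have hnorm : ∀ s ∈ H, ∀ g ∈ C, s * g * s⁻¹ ∈ C := fun s hs g hg =>
    Subgroup.le_normalizer_iff.1 hHC s hs g hg
  have hβker : ∀ c : C, (c : G) ∈ ⁅C, H⁆ → (β : C → ℂ) c = (β : C → ℂ) 1 := by
    haveI : (⁅C, H⁆.subgroupOf C).Normal := (Subgroup.normal_subgroupOf_iff_le_normalizer hNC).2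
      (CfsgLib.Solvable.le_normalizer_commutator_left C H)
    intro c hc
    refine inv_trivial_on (conjHom C H hnorm) hE.pgrp
      (fun hd => hpM (hd.trans (Subgroup.card_dvd_of_le inf_le_left)))
      (⁅C, H⁆.subgroupOf C) ?_ ?_ ?_ ((inv_conjHom_iff C H hnorm _).1
        fun s hs d d' hd => hβinv s hs d d' hd) (Subgroup.mem_subgroupOf.2 hc)
    · intro s d
      rw [Subgroup.mem_subgroupOf, Subgroup.coe_mul, Subgroup.coe_inv, conjHom_apply,
        show (d : G)⁻¹ * ((s : G) * d * (s : G)⁻¹) = (d : G)⁻¹ * s * (d : G)⁻¹⁻¹ * (s : G)⁻¹ by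
          group, ← commutatorElement_def]
      exact Subgroup.commutator_mem_commutator (C.inv_mem d.2) s.2
    · rw [eq_bot_iff]
      rintro d ⟨hd1, hd2⟩
      have h3 : (d : G) ∈ ⁅C, H⁆ ⊓ Subgroup.centralizer (H : Set G) :=
        ⟨Subgroup.mem_subgroupOf.1 hd1, (mem_fixedSub_conjHom C H hnorm d).1 hd2⟩
      rw [hfix, Subgroup.mem_bot] at h3
      exact Subtype.ext h3
    · rw [eq_top_iff]
      intro d _
      obtain ⟨y, hy, w, hw, e⟩ := (CfsgLib.Solvable.mem_sup_of_le_normalizer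
        (inf_le_left.trans (CfsgLib.Solvable.le_normalizer_commutator_left C H))).mp
        (hsup.symm ▸ d.2 : (d : G) ∈ ⁅C, H⁆ ⊔ (C ⊓ Subgroup.centralizer (H : Set G)))
      rw [show d = ⟨y, hNC hy⟩ * ⟨w, hw.1⟩ from Subtype.ext e.symm]
      exact mul_mem (Subgroup.mem_sup_left (Subgroup.mem_subgroupOf.2 hy))
        (Subgroup.mem_sup_right ((mem_fixedSub_conjHom C H hnorm _).2 hw.2))
  -- the cores of the pairs
  have hkM : ∀ g, kern p H g ≤ M := fun g x hx =>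
    mem_of_regular_sup hE.pgrp inferInstance (htop ▸ Subgroup.mem_top x : x ∈ M ⊔ H)
      (regular_of_mem_kern hx)
  have hkC : ∀ g x, x ∈ kern p H g → Commute a x → x ∈ ⁅C, H⁆ := by
    intro g x hx hax
    have hsub : kern p H g ⊓ C ≤ C := inf_le_right
    have hn' : H ≤ Subgroup.normalizer ((kern p H g ⊓ C : Subgroup G) : Set G) :=
      Subgroup.le_normalizer_iff.2 fun s hs y hy => ⟨kern_conj (mem_pair hs) hy.1,
        hnorm s hs y hy.2⟩
    have hsup' := CfsgLib.Solvable.commutator_sup_centralizer (K := kern p H g ⊓ C) hn'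
      ((hE.coprime_kern g).coprime_dvd_right (Subgroup.card_dvd_of_le inf_le_left))
      (Or.inl hE.isSolvable)
    have hfix' : (kern p H g ⊓ C) ⊓ Subgroup.centralizer (H : Set G) = ⊥ := by
      rw [eq_bot_iff]
      rintro y ⟨hy, hyc⟩
      exact hE.kern_centralizer hy.1 fun s hs => (Subgroup.mem_centralizer_iff.1 hyc s hs).symm
    rw [hfix', sup_bot_eq] at hsup'
    have hxC : x ∈ kern p H g ⊓ C :=
      ⟨hx, hkM g hx, Subgroup.mem_centralizer_singleton_iff.2 hax.symm.eq⟩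
    exact Subgroup.commutator_mono hsub le_rfl (hsup'.symm ▸ hxC)
  obtain ⟨e₁, he₁, hev₁⟩ := hval a (Subgroup.mem_zpowers a) ha1
  obtain ⟨e₂, he₂, hev₂⟩ := hval (a * a) (mul_mem (Subgroup.mem_zpowers a)
    (Subgroup.mem_zpowers a)) ha2
  set A : Γ := ⟨a, haΓ⟩ with hA
  have hone : (β : C → ℂ) 1 ≠ 0 := CfsgLib.Char.IsIrrCharacter.apply_one_ne_zero β.2
  have hvA : (χ : Γ → ℂ) A = e₁ * (β : C → ℂ) 1 := hev₁ 1 A (one_mul _).symm
  have hvA2 : (χ : Γ → ℂ) (A * A) = e₂ * (β : C → ℂ) 1 := hev₂ 1 (A * A) (one_mul _).symm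
  have hprod : ∀ g : Γ, (χ : Γ → ℂ) (g * A * g⁻¹ * A) = (χ : Γ → ℂ) (A * A) := by
    intro g
    set k := hE.sigma (g : G) with hk
    have hkO := hE.sigma_mem (g : G)
    -- `g` centralizes `a` modulo the core
    have hn' : hE.nu (g : G) * a * (hE.nu (g : G))⁻¹ = a := by
      have hn1 := hE.nu_conj_mem (g : G) ha
      have h2 : a⁻¹ * (hE.nu (g : G) * a * (hE.nu (g : G))⁻¹) ∈ M := by
        obtain ⟨m₀, hm₀, w, hw, e⟩ := Subgroup.mem_sup_of_normal_left.1 g.2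
        obtain ⟨j, rfl⟩ := Subgroup.mem_zpowers_iff.1 hw
        have e2 : hE.nu (g : G) * a * (hE.nu (g : G))⁻¹ =
            (k⁻¹ * m₀) * a * (k⁻¹ * m₀)⁻¹ := by
          rw [show hE.nu (g : G) = k⁻¹ * (g : G) from rfl, ← e,
            show k⁻¹ * (m₀ * a ^ j) * a * (k⁻¹ * (m₀ * a ^ j))⁻¹ =
              (k⁻¹ * m₀) * (a ^ j * a * (a ^ j)⁻¹) * (k⁻¹ * m₀)⁻¹ by group,
            ((Commute.refl a).zpow_left j).eq, mul_inv_cancel_right]
        have hkm : k⁻¹ * m₀ ∈ M := mul_mem (inv_mem (hkM _ hkO)) hm₀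
        rw [e2, show a⁻¹ * (k⁻¹ * m₀ * a * (k⁻¹ * m₀)⁻¹) =
          a⁻¹ * (k⁻¹ * m₀) * a⁻¹⁻¹ * (k⁻¹ * m₀)⁻¹ by group]
        exact mul_mem ((inferInstance : M.Normal).conj_mem _ hkm a⁻¹) (inv_mem hkm)
      exact (inv_mul_eq_one.1 (eq_one_of_regular hE.pgrp (mul_mem (inv_mem ha) hn1)
        (not_dvd_orderOf_of_mem hcop h2))).symm
    have hy : a⁻¹ * k * a⁻¹⁻¹ * k⁻¹ ∈ kern p H (g : G) :=
      mul_mem (kern_conj (mem_pair (inv_mem ha)) hkO) (inv_mem hkO)
    obtain ⟨k', hk', x, hx, hcx, e⟩ := hE.exists_conj_split (mul_mem ha ha) hy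
    have hax : Commute a x := by
      have hd : Nat.Coprime (orderOf a) 2 := by
        rw [hao]; exact (Nat.coprime_primes hp Nat.prime_two).2 hp2
      obtain ⟨t, ht⟩ := exists_pow_eq_self_of_coprime (x := a) (n := 2) hd.symm
      rw [← ht, pow_two]
      exact hcx.pow_left t
    have hxC : x ∈ C := ⟨hkM _ hx, Subgroup.mem_centralizer_singleton_iff.2 hax.symm.eq⟩
    have hk'Γ : k' ∈ Γ := hMΓ (hkM _ hk')
    rw [CfsgLib.Char.IsClassFunction.mul_comm' hcl, ← hcl (A * (g * A * g⁻¹)) ⟨k', hk'Γ⟩,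
      hev₂ ⟨x, hxC⟩ _ ?_, hβker ⟨x, hxC⟩ (hkC _ x hx hax), hvA2]
    show k' * (a * ((g : G) * a * (g : G)⁻¹)) * k'⁻¹ = x * (a * a)
    rw [hE.conj_eq (g : G) a, hn', ← hk, ← hcx.eq, ← e]
    group
  have hsum := CfsgLib.Blk83.sum_conj_mul χ A A
  rw [Finset.sum_congr rfl fun g _ => hprod g, Finset.sum_const, Finset.card_univ, nsmul_eq_mul,
    mul_assoc] at hsum
  have h0 : (Fintype.card Γ : ℂ) ≠ 0 := Nat.cast_ne_zero.2 Fintype.card_ne_zero
  have hsum2 := mul_left_cancel₀ h0 hsum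
  rw [hvA, hvA2] at hsum2
  have hnorm2 := congrArg (‖·‖) hsum2
  simp only [norm_mul, he₁, he₂, one_mul] at hnorm2
  have hd1 : ‖(χ : Γ → ℂ) 1‖ = ‖(β : C → ℂ) 1‖ :=
    mul_left_cancel₀ (norm_ne_zero_iff.2 hone) hnorm2
  -- `a` acts as a scalar
  obtain ⟨d, ρ, hρ, hρc⟩ := id χ.2
  have hd : (χ : Γ → ℂ) 1 = (d : ℂ) := by
    rw [← hρc, Representation.char_one, Module.finrank_fin_fun]
  have hd0 : (d : ℂ) ≠ 0 := hd ▸ CfsgLib.Char.IsIrrCharacter.apply_one_ne_zero χ.2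
  set ω := (χ : Γ → ℂ) A / (d : ℂ) with hω
  have hωn : ‖ω‖ = 1 := by
    rw [hω, norm_div, hvA, norm_mul, he₁, one_mul, ← hd1, hd]
    exact div_self (norm_ne_zero_iff.2 hd0)
  have hsc : ρ A = ω • LinearMap.id := CfsgLib.Char.eq_smul_id_of_character_eq ρ A ω hωn (by
    rw [hρc, Module.finrank_fin_fun, hω, mul_div_cancel₀ _ hd0])
  set Mm : Γ := ⟨(m : G), hMΓ m.2⟩ with hMm
  have hz2 : ρ (Mm * A * Mm⁻¹ * A⁻¹) = 1 := by
    have h1 : ρ (Mm * A * Mm⁻¹) = ρ A := by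
      rw [map_mul, map_mul, hsc, ← Module.End.one_eq_id, mul_smul_comm, mul_one, smul_mul_assoc,
        ← map_mul, mul_inv_cancel, map_one]
    rw [map_mul, h1, ← map_mul, mul_inv_cancel, map_one]
  rw [← hres (Mm * A * Mm⁻¹ * A⁻¹) z hz.symm, ← hres 1 1 rfl, ← hρc]
  show LinearMap.trace ℂ _ (ρ _) = LinearMap.trace ℂ _ (ρ 1)
  rw [hz2, show ρ 1 = 1 from map_one ρ]

/-- The induction. -/
theorem fixStatement (hp2 : p ≠ 2) : ∀ n, FixStatement.{u} p n := by
  intro n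
  induction n using Nat.strong_induction_on with
  | _ n ih =>
  intro G _ _ H M hn hE hM hcop htop hcomm
  haveI := hM
  by_contra hL
  obtain ⟨⟨l, hlM, hlH⟩, hl1⟩ := Subgroup.ne_bot_iff_exists_ne_one.1 hL
  have hl1' : l ≠ 1 := fun e => hl1 (Subtype.ext e)
  have hlH' : ∀ h ∈ H, Commute l h := fun h hh =>
    (Subgroup.mem_centralizer_iff.1 hlH h hh).symm
  have hpM : ¬ p ∣ Nat.card M := (Fact.out : p.Prime).coprime_iff_not_dvd.1 hcop.symm
  have hH : H ≠ ⊥ := by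
    rintro rfl
    rw [Subgroup.commutator_bot_right] at hcomm
    exact hl1' (Subgroup.mem_bot.1 (hcomm.symm ▸ hlM : l ∈ (⊥ : Subgroup G)))
  obtain ⟨k, hk⟩ := IsPGroup.iff_card.1 hE.pgrp
  have hk0 : k ≠ 0 := fun h => hH (Subgroup.card_eq_one.1 (by rw [hk, h, pow_zero]))
  obtain ⟨⟨a, ha⟩, hao'⟩ := exists_prime_orderOf_dvd_card' (G := H) p (hk ▸ dvd_pow_self p hk0)
  have hao : orderOf a = p := by rwa [Subgroup.orderOf_mk] at hao'
  have ha1 : a ≠ 1 := fun h => (Fact.out : p.Prime).ne_one (by rw [← hao, h, orderOf_one])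
  by_cases hna : M ⊓ Subgroup.centralizer ({a} : Set G) = M
  · -- `a` is central
    have haz : a ∈ Subgroup.center G := by
      rw [Subgroup.mem_center_iff]
      intro g
      obtain ⟨m, hm, h, hh, rfl⟩ := Subgroup.mem_sup_of_normal_left.1
        (htop ▸ Subgroup.mem_top g : g ∈ M ⊔ H)
      have h1 : Commute m a := Subgroup.mem_centralizer_singleton_iff.1 (hna.symm ▸ hm :
        m ∈ M ⊓ Subgroup.centralizer ({a} : Set G)).2
      exact (h1.mul_left (hE.comm hh ha)).eq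
    haveI : (Subgroup.zpowers a).Normal := ⟨fun z hz g => by
      rw [Subgroup.mem_center_iff.1 (Subgroup.zpowers_le.2 haz hz) g, mul_inv_cancel_right]
      exact hz⟩
    have hne : Subgroup.zpowers a ≠ ⊥ := fun h => ha1 (by simpa using h)
    have hl2 := fixed_mem_of_quotient hn ih hE hM hcop htop hcomm _ hne hlM hlH'
    exact hl1' (eq_one_of_regular hE.pgrp (Subgroup.zpowers_le.2 ha hl2)
      (not_dvd_orderOf_of_mem hcop hlM))
  have hnorm : ∀ s ∈ H, ∀ g ∈ M, s * g * s⁻¹ ∈ M := fun s _ g hg => hM.conj_mem g hg s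
  obtain ⟨θ, hθ, x, hx, hne⟩ := exists_inv_ne (conjHom M H hnorm) hE.pgrp hpM
    (l := ⟨l, hlM⟩) ((mem_fixedSub_conjHom M H hnorm _).2 hlH) (fun e => hl1' (congrArg Subtype.val e))
  have hθ' := (inv_conjHom_iff M H hnorm _).2 hθ
  obtain ⟨K, hKn, hK, -⟩ := CfsgLib.CharTools.exists_kernel
    (CfsgLib.Char.IsIrrCharacter.isCharacter θ.2)
  haveI := hKn
  -- the kernel is normal in `G`
  set R := K.map M.subtype with hR
  haveI : R.Normal := by
    refine ⟨?_⟩
    rintro _ ⟨y, hy, rfl⟩ g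
    obtain ⟨m₀, hm₀, h, hh, rfl⟩ := Subgroup.mem_sup_of_normal_left.1
      (htop ▸ Subgroup.mem_top g : g ∈ M ⊔ H)
    refine ⟨⟨m₀, hm₀⟩ * ⟨h * (y : G) * h⁻¹, hM.conj_mem _ y.2 h⟩ * ⟨m₀, hm₀⟩⁻¹,
      hKn.conj_mem _ ((hK _).2 ?_) _, ?_⟩
    · rw [hθ' h hh y _ rfl]
      exact (hK y).1 hy
    · show m₀ * (h * (y : G) * h⁻¹) * m₀⁻¹ = _
      simp [mul_assoc]
  have hRne : R ≠ ⊥ := by
    obtain ⟨m, hm, hm'⟩ : ∃ m ∈ M, ¬ Commute m a := by
      by_contra hcon
      push Not at hcon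
      exact hna (inf_eq_left.2 fun m hm =>
        Subgroup.mem_centralizer_singleton_iff.2 (hcon m hm).eq)
    have hzM : m * a * m⁻¹ * a⁻¹ ∈ M := by
      rw [show m * a * m⁻¹ * a⁻¹ = m * (a * m⁻¹ * a⁻¹) by group]
      exact mul_mem hm (hM.conj_mem _ (inv_mem hm) a)
    have hzK : (⟨_, hzM⟩ : M) ∈ K := (hK _).2
      (commutator_mem_kernel hn ih hE hp2 hcop htop ha hao hna θ hθ' ⟨m, hm⟩ rfl)
    intro hbot
    apply hm'
    have h0 : m * a * m⁻¹ * a⁻¹ ∈ (⊥ : Subgroup G) := hbot ▸ ⟨_, hzK, rfl⟩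
    rw [Subgroup.mem_bot, mul_inv_eq_one, mul_inv_eq_iff_eq_mul] at h0
    exact h0
  have hx' := (mem_fixedSub_conjHom M H hnorm x).1 hx
  obtain ⟨y, hy, hye⟩ := fixed_mem_of_quotient hn ih hE hM hcop htop hcomm R hRne x.2
    (fun h hh => (Subgroup.mem_centralizer_iff.1 hx' h hh).symm)
  apply hne
  rw [← show y = x from Subtype.ext hye]
  exact (hK y).1 hy

/-- `C_M(H) = 1`. -/
theorem fixed_eq_bot (hE : EC p H) (hp2 : p ≠ 2) (hM : M.Normal) (hcop : (Nat.card M).Coprime p)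
    (htop : M ⊔ H = ⊤) (hcomm : ⁅M, H⁆ = M) : M ⊓ Subgroup.centralizer (H : Set G) = ⊥ :=
  fixStatement hp2 _ G H M le_rfl hE hM hcop htop hcomm

end CfsgLib.ExtClosed
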