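import Cfsg.Agent.Lib.ExtClosed.Three
import Mathlib.GroupTheory.Transfer
import Cfsg.Agent.Lib.BlockReg.Integral

/-!
# No reduced counterexample to the factorization

If `H` generates `G` normally, `O_{p'}(G) = 1`, no nontrivial element of `H` is central and the
centralizers of the elements of `H` are regular, the second and third moments of the principal
block over `H` are incompatible.
-/

set_option autoImplicit false
set_option linter.style.haveILetI false
set_option linter.unusedSectionVars false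
open Cfsg
open scoped ComplexConjugate

universe u

namespace CfsgLib.ExtClosed

open CfsgLib.Invol

variable {G : Type u} [Group G] [Fintype G] {p : ℕ} [Fact p.Prime] {H : Subgroup G}
  {M : Ideal Cfsg.AlgInt}

theorem card_cases (hE : EC p H) (hp2 : p ≠ 2) (hH : H ≠ ⊥) :
    Nat.card H = 3 ∨ 5 ≤ Nat.card H := by
  obtain ⟨k, hk⟩ := IsPGroup.iff_card.1 hE.pgrp
  have h1 : 1 < Nat.card H := (Subgroup.one_lt_card_iff_ne_bot H).2 hH
  have hodd : Odd (Nat.card H) := hk ▸ ((Fact.out : p.Prime).odd_of_ne_two hp2).pow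
  obtain ⟨j, hj⟩ := hodd
  omega

theorem inv_ne_self (hE : EC p H) (hp2 : p ≠ 2) {a : G} (ha : a ∈ H) (ha1 : a ≠ 1) :
    a⁻¹ ≠ a := by
  intro e
  obtain ⟨k, hk⟩ := pow_orderOf_of_mem hE ha
  have h2 : orderOf a ∣ 2 := orderOf_dvd_of_pow_eq_one (by
    rw [pow_two]; nth_rewrite 1 [← e]; exact inv_mul_cancel a)
  rw [hk] at h2
  rcases Nat.eq_zero_or_pos k with h | h
  · exact ha1 (orderOf_eq_one_iff.1 (by rw [hk, h, pow_zero]))
  · have h3 : p ∣ 2 := (dvd_pow_self p h.ne').trans h2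
    exact hp2 ((Nat.prime_dvd_prime_iff_eq Fact.out Nat.prime_two).1 h3)

open scoped Classical in
/-- The second moment is a weighted sum of column norms. -/
theorem second_moment (hE : EC p H) (hM : Cfsg.IsPModular p M) :
    ∃ S : G → ℕ, (∀ a ∈ sharp H, ∀ R : Subgroup G, IsPGroup p R →
        R ≤ Subgroup.centralizer ({a} : Set G) → Nat.card R ≤ S a) ∧
      ∑ χ ∈ BlockCol.pBlock M G, (asum H χ).re ^ 2 =
        ∑ a ∈ sharp H, (((sharp H).filter (IsConj a)).card : ℝ) * (S a : ℝ) := by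
  have hex : ∀ a : G, ∃ n : ℕ, a ∈ sharp H →
      ∑ χ ∈ BlockCol.pBlock M G, (χ : G → ℂ) a * conj ((χ : G → ℂ) a) = (n : ℂ) ∧
      ∀ R : Subgroup G, IsPGroup p R → R ≤ Subgroup.centralizer ({a} : Set G) →
        Nat.card R ≤ n := by
    intro a
    by_cases ha : a ∈ sharp H
    · obtain ⟨n, hn⟩ := exists_col_norm hM (pow_orderOf_of_mem hE (mem_sharp.1 ha).1)
      exact ⟨n, fun _ => hn⟩
    · exact ⟨0, fun h => absurd h ha⟩
  choose S hS using hex
  refine ⟨S, fun a ha => (hS a ha).2, ?_⟩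
  have h : ∑ χ ∈ BlockCol.pBlock M G, asum H χ * conj (asum H χ) =
      ∑ a ∈ sharp H, (((sharp H).filter (IsConj a)).card : ℂ) * (S a : ℂ) := by
    simp only [asum, map_sum, Finset.sum_mul_sum]
    rw [Finset.sum_comm]
    refine Finset.sum_congr rfl fun a ha => ?_
    rw [Finset.sum_comm, ← (hS a ha).1, ← nsmul_eq_mul, ← Finset.sum_const, Finset.sum_filter]
    refine Finset.sum_congr rfl fun b hb => ?_
    split_ifs with hab
    · exact Finset.sum_congr rfl fun χ _ => by
        rw [CfsgLib.Char.IsClassFunction.eq_of_isConj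
          (CfsgLib.Char.IsIrrCharacter.isClassFunction χ.2) hab]
    · exact col_orth_conj hM (pow_orderOf_of_mem hE (mem_sharp.1 ha).1)
        (pow_orderOf_of_mem hE (mem_sharp.1 hb).1) hab
  have h2 := congrArg Complex.re h
  rw [Complex.re_sum, Complex.re_sum] at h2
  simp only [Complex.mul_re, Complex.natCast_re, Complex.natCast_im, mul_zero, sub_zero] at h2
  rw [← h2]
  refine Finset.sum_congr rfl fun χ _ => ?_
  rw [conj_asum, show (asum H χ).im = 0 from Complex.conj_eq_iff_im.1 (conj_asum χ)]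
  ring

/-- Fusion among the nontrivial elements of `H` is impossible. -/
theorem not_fused (hE : EC p H) (hR : Reg p H) (hp2 : p ≠ 2) (hM : Cfsg.IsPModular p M)
    (hH : H ≠ ⊥) (hX : Subgroup.normalClosure (H : Set G) = ⊤)
    {a b : G} (ha : a ∈ sharp H) (hb : b ∈ sharp H) (hab : a ≠ b) (hc : IsConj a b) : False := by
  classical
  obtain ⟨S, hS, h2⟩ := second_moment hE hM
  set B := BlockCol.pBlock M G with hB
  set χ₁ : IrrCharacter G := CfsgLib.Char.principalIrr with hχ₁
  set q : ℝ := (Nat.card H : ℝ) with hq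
  have hcases := card_cases hE hp2 hH
  have hq2 : 2 ≤ Nat.card H := by omega
  have hSq : ∀ x ∈ sharp H, Nat.card H ≤ S x := fun x hx => hS x hx H hE.pgrp fun y hy =>
    Subgroup.mem_centralizer_singleton_iff.2 (hE.comm hy (mem_sharp.1 hx).1).eq
  -- the second moment is large
  have hlow : q * (q + 1) ≤ ∑ χ ∈ B, (asum H χ).re ^ 2 := by
    rw [h2]
    have h : ∑ x ∈ sharp H, (1 + (if x = a then 1 else 0) + (if x = b then 1 else 0) : ℕ) ≤
        ∑ x ∈ sharp H, ((sharp H).filter (IsConj x)).card := by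
      refine Finset.sum_le_sum fun x hx => ?_
      have h1 : 1 ≤ ((sharp H).filter (IsConj x)).card :=
        Finset.card_pos.2 ⟨x, Finset.mem_filter.2 ⟨hx, IsConj.refl x⟩⟩
      have htwo : ∀ u v, u ≠ v → u ∈ sharp H → v ∈ sharp H → IsConj x u → IsConj x v →
          2 ≤ ((sharp H).filter (IsConj x)).card := fun u v huv hu hv h3 h4 => by
        rw [← Finset.card_pair huv]
        refine Finset.card_le_card fun z hz => ?_
        simp only [Finset.mem_insert, Finset.mem_singleton] at hz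
        rcases hz with rfl | rfl
        exacts [Finset.mem_filter.2 ⟨hu, h3⟩, Finset.mem_filter.2 ⟨hv, h4⟩]
      by_cases hxa : x = a
      · subst hxa
        rw [if_pos rfl, if_neg hab]
        exact htwo x b hab hx hb (IsConj.refl x) hc
      by_cases hxb : x = b
      · subst hxb
        rw [if_neg hxa, if_pos rfl]
        exact htwo x a hxa hx ha (IsConj.refl x) hc.symm
      rw [if_neg hxa, if_neg hxb]
      exact h1
    rw [Finset.sum_add_distrib, Finset.sum_add_distrib, Finset.sum_const, smul_eq_mul, mul_one,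
      Finset.sum_ite_eq', Finset.sum_ite_eq', if_pos ha, if_pos hb] at h
    have hcs := card_sharp (H := H)
    have h' : Nat.card H * (Nat.card H + 1) ≤
        ∑ x ∈ sharp H, ((sharp H).filter (IsConj x)).card * S x := by
      calc Nat.card H * (Nat.card H + 1)
          ≤ Nat.card H * ∑ x ∈ sharp H, ((sharp H).filter (IsConj x)).card :=
            Nat.mul_le_mul_left _ (by omega)
        _ ≤ _ := by
            rw [Finset.mul_sum]
            refine Finset.sum_le_sum fun x hx => ?_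
            rw [mul_comm]
            exact Nat.mul_le_mul_left _ (hSq x hx)
    rw [hq]
    exact_mod_cast h'
  rw [← Finset.add_sum_erase _ _ (principal_mem hM)] at hlow
  have hA1 : (asum H χ₁).re = q - 1 := by simp [hχ₁, hq, asum_principal]
  rw [hA1] at hlow
  have hmom := moment hE hR hM
  rw [← hB, ← hq] at hmom
  rcases hcases with h3 | h5
  · -- order three
    have hq3 : q = 3 := by rw [hq, h3]; norm_num
    rw [hq3] at hlow hmom
    have ha' : b = a⁻¹ := by
      have := (sharp_three h3 ha).1 ▸ hb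
      simp only [Finset.mem_insert, Finset.mem_singleton] at this
      exact this.resolve_left hab.symm
    have hc' : IsConj a a⁻¹ := ha' ▸ hc
    have hdeg : ∀ χ : IrrCharacter G, 0 < ((χ : G → ℂ) 1).re := fun χ => by
      obtain ⟨d, hd, hd1⟩ := CfsgLib.Char.IsIrrCharacter.exists_degree χ.2
      rw [hd1, Complex.natCast_re]
      exact Nat.cast_pos.2 (Nat.pos_of_ne_zero fun h0 =>
        CfsgLib.Char.IsIrrCharacter.apply_one_ne_zero χ.2 (by rw [hd1, h0, Nat.cast_zero]))
    have hhalf : ∀ χ ∈ B.erase χ₁, (asum H χ).re ≤ ((χ : G → ℂ) 1).re / 2 := by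
      intro χ hχ
      obtain ⟨hne, hχB⟩ := Finset.mem_erase.1 hχ
      obtain ⟨d, hd, hd1⟩ := CfsgLib.Char.IsIrrCharacter.exists_degree χ.2
      have hb1 := asum_bound hE hR hM hχB hd1 hq2 hX hne
      have hle := asum_re_le χ hd1 hX
      have hlt : (asum H χ).re < ((Nat.card H : ℝ) - 1) * d :=
        lt_of_le_of_ne hle.1 fun e => hne (hle.2 e)
      have hquad := quad_of_bound hE hR hM hχB hd1 (α := 3 / 2) (β := -1) fun g =>
        rsum_ge_three hE h3 ha hc' χ hd1 g
      rw [← hq, hq3] at hb1 hlt hquad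
      rw [hd1, Complex.natCast_re]
      by_contra hcon
      push Not at hcon
      nlinarith [mul_neg_of_neg_of_pos (show (asum H χ).re - 2 * d < 0 by linarith)
        (show 0 < (asum H χ).re - (d : ℝ) / 2 by linarith)]
    have hnn : ∀ χ ∈ B.erase χ₁,
        0 ≤ (asum H χ).re ^ 2 * (((3 : ℝ) - 2) - (asum H χ).re / ((χ : G → ℂ) 1).re - 1 / 2) := by
      intro χ hχ
      refine mul_nonneg (sq_nonneg _) ?_
      have := (div_le_iff₀ (hdeg χ)).2 (show (asum H χ).re ≤ 1 / 2 * ((χ : G → ℂ) 1).re by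
        have := hhalf χ hχ; linarith)
      linarith
    have hzero : ∀ χ ∈ B.erase χ₁,
        (asum H χ).re ^ 2 * (((3 : ℝ) - 2) - (asum H χ).re / ((χ : G → ℂ) 1).re - 1 / 2) = 0 := by
      refine (Finset.sum_eq_zero_iff_of_nonneg hnn).1 (le_antisymm ?_ (Finset.sum_nonneg hnn))
      simp only [mul_sub _ _ ((1 : ℝ) / 2), Finset.sum_sub_distrib, ← Finset.sum_mul]
      rw [hmom]
      linarith
    have horth := congrArg Complex.re (sum_degree_mul_asum (M := M) hE hM)
    rw [Complex.re_sum, ← Finset.add_sum_erase _ _ (principal_mem hM), Complex.zero_re] at horth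
    simp only [CfsgLib.Char.principalIrr_apply, one_mul] at horth
    rw [← hχ₁, hA1, hq3, ← hB] at horth
    have hpos : 0 ≤ ∑ χ ∈ B.erase χ₁, ((χ : G → ℂ) 1 * asum H χ).re := by
      refine Finset.sum_nonneg fun χ hχ => ?_
      rw [← asum_re χ, Complex.re_mul_ofReal]
      refine mul_nonneg (hdeg χ).le ?_
      rcases mul_eq_zero.1 (hzero χ hχ) with h | h
      · rw [sq_eq_zero_iff.1 h]
      · have he : (asum H χ).re / ((χ : G → ℂ) 1).re = 1 / 2 := by linarith
        rw [div_eq_iff (hdeg χ).ne'] at he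
        rw [he]; exact mul_nonneg (by norm_num) (hdeg χ).le
    linarith
  · -- order at least five
    have hq5 : (5 : ℝ) ≤ q := by rw [hq]; exact_mod_cast h5
    have h : ∀ χ ∈ B.erase χ₁, (asum H χ).re ^ 2 * (q - 2 - (q + 1) / (q - 1)) ≤
        (asum H χ).re ^ 2 * ((q - 2) - (asum H χ).re / ((χ : G → ℂ) 1).re) := by
      intro χ hχ
      obtain ⟨hne, hχB⟩ := Finset.mem_erase.1 hχ
      obtain ⟨d, hd, hd1⟩ := CfsgLib.Char.IsIrrCharacter.exists_degree χ.2
      have hb1 := asum_bound hE hR hM hχB hd1 hq2 hX hne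
      have hd0 : (0 : ℝ) < d := Nat.cast_pos.2 (Nat.pos_of_ne_zero fun h0 =>
        CfsgLib.Char.IsIrrCharacter.apply_one_ne_zero χ.2 (by rw [hd1, h0, Nat.cast_zero]))
      refine mul_le_mul_of_nonneg_left (sub_le_sub_left ?_ _) (sq_nonneg _)
      rw [hd1, Complex.natCast_re, div_le_div_iff₀ hd0 (by linarith)]
      rw [← hq] at hb1
      linarith
    have hsum := Finset.sum_le_sum h
    rw [hmom, ← Finset.sum_mul] at hsum
    have h1 : 0 < q - 1 := by linarith
    have h3 : 0 ≤ q - 2 - (q + 1) / (q - 1) := by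
      rw [sub_nonneg, div_le_iff₀ h1]; nlinarith
    have h4 := (mul_le_mul_of_nonneg_right
      (show 3 * q - 1 ≤ ∑ χ ∈ B.erase χ₁, (asum H χ).re ^ 2 by linarith) h3).trans hsum
    have h5' := mul_le_mul_of_nonneg_left h4 h1.le
    field_simp at h5'
    nlinarith [mul_le_mul_of_nonneg_left hq5 (show (0:ℝ) ≤ q by linarith),
      mul_pos (show (0:ℝ) < q by linarith) (show (0:ℝ) < q ^ 2 - 5 * q + 2 by nlinarith)]

/-- Without fusion the values of a principal block character multiply. -/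
theorem mul_of_not_fused (hE : EC p H) (hR : Reg p H) (hM : Cfsg.IsPModular p M)
    (hf : ∀ x ∈ H, ∀ y ∈ H, IsConj x y → x = y) {χ : IrrCharacter G}
    (hχ : χ ∈ BlockCol.pBlock M G) {x y : G} (hx : x ∈ H) (hy : y ∈ H) (hxy : x * y ≠ 1) :
    (χ : G → ℂ) x * (χ : G → ℂ) y = (χ : G → ℂ) 1 * (χ : G → ℂ) (x * y) := by
  have hcl := CfsgLib.Char.IsIrrCharacter.isClassFunction χ.2
  have hall : ∀ g : G, (χ : G → ℂ) (g * y * g⁻¹ * x) = (χ : G → ℂ) (x * y) := by
    intro g
    have hn : hE.nu g * y * (hE.nu g)⁻¹ = y :=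
      (hf y hy _ (hE.nu_conj_mem g hy) (isConj_iff.2 ⟨hE.nu g, rfl⟩)).symm
    rw [hE.conj_eq g y, hn, CfsgLib.Char.IsClassFunction.mul_comm' hcl]
    exact val_product hE hR hM hχ hx hy (hE.sigma_mem g) hxy
  have h := CfsgLib.Blk83.sum_conj_mul χ y x
  rw [Finset.sum_congr rfl fun g _ => hall g, Finset.sum_const, Finset.card_univ,
    nsmul_eq_mul] at h
  have h0 : (Fintype.card G : ℂ) ≠ 0 := Nat.cast_ne_zero.2 Fintype.card_ne_zero
  rw [mul_assoc] at h
  have h2 := mul_left_cancel₀ h0 h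
  linear_combination -h2

/-- Without fusion the sum over `H` is zero or minus the degree. -/
theorem asum_not_fused (hE : EC p H) (hR : Reg p H) (hp2 : p ≠ 2) (hM : Cfsg.IsPModular p M)
    (hH : H ≠ ⊥) (hX : Subgroup.normalClosure (H : Set G) = ⊤)
    (hf : ∀ x ∈ H, ∀ y ∈ H, IsConj x y → x = y) {χ : IrrCharacter G}
    (hχ : χ ∈ BlockCol.pBlock M G) (hne : χ ≠ CfsgLib.Char.principalIrr) :
    asum H χ = 0 ∨ asum H χ = -(χ : G → ℂ) 1 := by
  classical
  set D := (χ : G → ℂ) 1 with hD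
  have hD0 : D ≠ 0 := CfsgLib.Char.IsIrrCharacter.apply_one_ne_zero χ.2
  have hu : ∀ a ∈ sharp H, (χ : G → ℂ) a ≠ 0 → (χ : G → ℂ) a * (χ : G → ℂ) a⁻¹ = D * D := by
    intro a ha hfa
    obtain ⟨haH, ha1⟩ := mem_sharp.1 ha
    have ha2 : a * a ≠ 1 := fun h =>
      inv_ne_self hE hp2 haH ha1 (inv_eq_of_mul_eq_one_right h)
    have e1 := mul_of_not_fused hE hR hM hf hχ haH haH ha2
    have e2 := mul_of_not_fused hE hR hM hf hχ (mul_mem haH haH) (inv_mem haH)
      (by simpa using ha1)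
    rw [mul_inv_cancel_right] at e2
    rw [← hD] at e1 e2
    refine mul_left_cancel₀ hfa ?_
    linear_combination (χ : G → ℂ) a⁻¹ * e1 + D * e2
  have hT : ∀ a ∈ sharp H, (χ : G → ℂ) a ≠ 0 →
      (χ : G → ℂ) a * (D + asum H χ) = D * (D + asum H χ) := by
    intro a ha hfa
    obtain ⟨haH, ha1⟩ := mem_sharp.1 ha
    rw [hD, asum, ← sum_elems, Finset.mul_sum, Finset.mul_sum]
    refine (Finset.sum_congr rfl (g := fun b => (χ : G → ℂ) 1 * (χ : G → ℂ) (a * b))
      fun b hb => ?_).trans ?_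
    · show (χ : G → ℂ) a * (χ : G → ℂ) b = (χ : G → ℂ) 1 * (χ : G → ℂ) (a * b)
      by_cases h : a * b = 1
      · rw [h, show b = a⁻¹ from eq_inv_of_mul_eq_one_right h]
        exact hu a ha hfa
      · exact mul_of_not_fused hE hR hM hf hχ haH (mem_elems.1 hb) h
    · refine Finset.sum_nbij' (fun b => a * b) (fun b => a⁻¹ * b) ?_ ?_ ?_ ?_ ?_
      · intro b hb; exact mem_elems.2 (mul_mem haH (mem_elems.1 hb))
      · intro b hb; exact mem_elems.2 (mul_mem (inv_mem haH) (mem_elems.1 hb))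
      · intro b _; simp
      · intro b _; simp
      · intro b _; rfl
  by_cases hT0 : D + asum H χ = 0
  · exact Or.inr (eq_neg_of_add_eq_zero_right hT0)
  by_cases h0 : ∀ a ∈ sharp H, (χ : G → ℂ) a = 0
  · exact Or.inl (Finset.sum_eq_zero h0)
  exfalso
  push Not at h0
  obtain ⟨a, ha, hfa⟩ := h0
  set s := (sharp H).filter fun x => (χ : G → ℂ) x ≠ 0 with hs
  have hval : ∀ x ∈ s, (χ : G → ℂ) x = D := fun x hx =>
    mul_right_cancel₀ hT0 (hT x (Finset.mem_filter.1 hx).1 (Finset.mem_filter.1 hx).2)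
  have hA : asum H χ = (s.card : ℂ) * D := by
    rw [asum, ← Finset.sum_filter_ne_zero, ← hs, Finset.sum_congr rfl hval, Finset.sum_const,
      nsmul_eq_mul]
  obtain ⟨haH, ha1⟩ := mem_sharp.1 ha
  have hs2 : 2 ≤ s.card := by
    rw [← Finset.card_pair (inv_ne_self hE hp2 haH ha1).symm]
    refine Finset.card_le_card fun z hz => ?_
    simp only [Finset.mem_insert, Finset.mem_singleton] at hz
    rcases hz with rfl | rfl
    · exact Finset.mem_filter.2 ⟨ha, hfa⟩
    · refine Finset.mem_filter.2 ⟨mem_sharp.2 ⟨inv_mem haH, inv_ne_one.2 ha1⟩, ?_⟩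
      rw [CfsgLib.Char.IsIrrCharacter.apply_inv χ.2]
      simpa using hfa
  obtain ⟨d, hd, hd1⟩ := CfsgLib.Char.IsIrrCharacter.exists_degree χ.2
  have hd0 : (0 : ℝ) < d := Nat.cast_pos.2 (Nat.pos_of_ne_zero fun h0 =>
    hD0 (by rw [hD, hd1, h0, Nat.cast_zero]))
  have hcases := card_cases hE hp2 hH
  have hq2 : 2 ≤ Nat.card H := by omega
  have hb1 := asum_bound hE hR hM hχ hd1 hq2 hX hne
  have hle := asum_re_le χ hd1 hX
  have hlt : (asum H χ).re < ((Nat.card H : ℝ) - 1) * d :=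
    lt_of_le_of_ne hle.1 fun e => hne (hle.2 e)
  have hAre : (asum H χ).re = (s.card : ℝ) * d := by
    rw [hA, hD, hd1, ← Nat.cast_mul, Complex.natCast_re, Nat.cast_mul]
  rw [hAre] at hb1 hlt
  have hsR : (2 : ℝ) ≤ s.card := by exact_mod_cast hs2
  have hb2 : ((Nat.card H : ℝ) - 1) * s.card ≤ (Nat.card H : ℝ) + 1 :=
    le_of_mul_le_mul_right (by linarith) hd0
  have hlt2 : (s.card : ℝ) < (Nat.card H : ℝ) - 1 := lt_of_mul_lt_mul_right hlt hd0.le
  rcases hcases with h3 | h5
  · rw [h3] at hlt2; norm_num at hlt2; linarith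
  · have : (5 : ℝ) ≤ Nat.card H := by exact_mod_cast h5
    nlinarith [mul_le_mul_of_nonneg_left hsR (show (0 : ℝ) ≤ (Nat.card H : ℝ) - 1 by linarith)]

/-- There is no reduced counterexample. -/
theorem no_reduced (hE : EC p H) (hR : Reg p H) (hp2 : p ≠ 2) (hH : H ≠ ⊥)
    (hX : Subgroup.normalClosure (H : Set G) = ⊤) (hO : Cfsg.pPrimeCore p G = ⊥)
    (hZ : ∀ c ∈ H, c ≠ 1 → c ∉ Subgroup.center G) : False := by
  classical
  obtain ⟨M, hM⟩ := CfsgLib.BlockReg.exists_isPModular (Fact.out : p.Prime)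
  by_cases hfus : ∃ a ∈ sharp H, ∃ b ∈ sharp H, a ≠ b ∧ IsConj a b
  · obtain ⟨a, ha, b, hb, hab, hc⟩ := hfus
    exact not_fused hE hR hp2 hM hH hX ha hb hab hc
  push Not at hfus
  have hf : ∀ x ∈ H, ∀ y ∈ H, IsConj x y → x = y := by
    intro x hx y hy hxy
    by_cases hx1 : x = 1
    · subst hx1; exact (isConj_one_right.1 hxy).symm
    by_cases hy1 : y = 1
    · subst hy1; exact isConj_one_right.1 hxy.symm
    by_contra hne
    exact hfus x (mem_sharp.2 ⟨hx, hx1⟩) y (mem_sharp.2 ⟨hy, hy1⟩) hne hxy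
  obtain ⟨S, hS, h2⟩ := second_moment hE hM
  set q : ℝ := (Nat.card H : ℝ) with hq
  have hcases := card_cases hE hp2 hH
  have hmom := moment hE hR hM
  rw [← hq] at hmom
  have hA1 : (asum H (CfsgLib.Char.principalIrr : IrrCharacter G)).re = q - 1 := by
    simp [hq, asum_principal]
  have h1 : ∀ χ ∈ (BlockCol.pBlock M G).erase CfsgLib.Char.principalIrr,
      (asum H χ).re ^ 2 * ((q - 2) - (asum H χ).re / ((χ : G → ℂ) 1).re) =
        (asum H χ).re ^ 2 * (q - 1) := by
    intro χ hχ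
    obtain ⟨hne, hχB⟩ := Finset.mem_erase.1 hχ
    rcases asum_not_fused hE hR hp2 hM hH hX hf hχB hne with h | h
    · rw [h]; simp
    · rw [h, Complex.neg_re, neg_div, div_self]
      · ring
      · obtain ⟨d, hd, hd1⟩ := CfsgLib.Char.IsIrrCharacter.exists_degree χ.2
        rw [hd1, Complex.natCast_re]
        intro h0
        apply CfsgLib.Char.IsIrrCharacter.apply_one_ne_zero χ.2
        rw [hd1]; exact_mod_cast h0
  rw [Finset.sum_congr rfl h1, ← Finset.sum_mul] at hmom
  have hq1 : q - 1 ≠ 0 := by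
    have : (3 : ℝ) ≤ q := by rw [hq]; exact_mod_cast (show 3 ≤ Nat.card H by omega)
    intro h; linarith
  rw [sq (q - 1)] at hmom
  have hQ := mul_right_cancel₀ hq1 hmom
  rw [← Finset.add_sum_erase _ _ (principal_mem hM), hA1, hQ] at h2
  -- the Sylow subgroup over `H` centralizes it
  obtain ⟨P, hP⟩ := hE.pgrp.exists_le_sylow
  have hPN := ((Cfsg.Agent.S3021.result H hE.pgrp hE.ec).2 P hP).1
  have hcentral : ∀ a ∈ sharp H, (P : Subgroup G) ≤ Subgroup.centralizer ({a} : Set G) := by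
    intro a ha y hy
    have haH := (mem_sharp.1 ha).1
    have := hf a haH _ ((Subgroup.mem_normalizer_iff.1 (hPN hy) a).1 haH) (isConj_iff.2 ⟨y, rfl⟩)
    rw [Subgroup.mem_centralizer_singleton_iff]
    exact (mul_inv_eq_iff_eq_mul.1 this.symm)
  have hle : ((sharp H).card : ℝ) * Nat.card (P : Subgroup G) ≤ q * (q - 1) := by
    rw [show q * (q - 1) = (q - 1) ^ 2 + (q - 1) by ring, h2, ← nsmul_eq_mul, ← Finset.sum_const]
    refine Finset.sum_le_sum fun a ha => ?_
    have h3 : (Nat.card (P : Subgroup G) : ℝ) ≤ S a := by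
      exact_mod_cast hS a ha P P.isPGroup' (hcentral a ha)
    refine h3.trans (le_mul_of_one_le_left (Nat.cast_nonneg _) ?_)
    exact_mod_cast Finset.card_pos.2 ⟨a, Finset.mem_filter.2 ⟨ha, IsConj.refl a⟩⟩
  have hcs : ((sharp H).card : ℝ) = q - 1 := by rw [hq, ← card_sharp (H := H)]; push_cast; ring
  rw [hcs, mul_comm q] at hle
  have hq0 : 0 < q - 1 := lt_of_le_of_ne (by
    have : (1 : ℝ) ≤ q := by rw [hq]; exact_mod_cast (Nat.card_pos (α := H))
    linarith) (Ne.symm hq1)
  have hPcard : (Nat.card (P : Subgroup G) : ℝ) ≤ Nat.card H := le_of_mul_le_mul_left hle hq0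
  have hPH : H = (P : Subgroup G) :=
    Subgroup.eq_of_le_of_card_ge hP (by exact_mod_cast hPcard)
  -- Burnside's transfer
  have hNC : Subgroup.normalizer ((P : Subgroup G) : Set G) ≤
      Subgroup.centralizer ((P : Subgroup G) : Set G) := by
    intro n hn y hy
    rw [← hPH] at hn hy
    have := hf y hy _ ((Subgroup.mem_normalizer_iff.1 hn y).1 hy) (isConj_iff.2 ⟨n, rfl⟩)
    exact (mul_inv_eq_iff_eq_mul.1 this.symm).symm
  have hcompl := MonoidHom.ker_transferSylow_isComplement' P hNC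
  have hK : (MonoidHom.transferSylow P hNC).ker = ⊥ := by
    rw [eq_bot_iff, ← hO]
    exact CfsgLib.LocalEven.le_primeCore_of_normal inferInstance
      ((Fact.out : p.Prime).coprime_iff_not_dvd.mpr
        (MonoidHom.not_dvd_card_ker_transferSylow P hNC)).symm
  have htop : H = ⊤ := by
    have := hcompl.sup_eq_top
    rw [hK, bot_sup_eq] at this
    rw [hPH, this]
  obtain ⟨⟨c, hc⟩, hc1⟩ := Subgroup.ne_bot_iff_exists_ne_one.1 hH
  exact hZ c hc (fun e => hc1 (Subtype.ext e)) (Subgroup.mem_center_iff.2 fun g =>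
    (hE.comm (htop ▸ Subgroup.mem_top g) hc).eq)

end CfsgLib.ExtClosed
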