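import Cfsg.Agent.Lib.ExtClosed.Average

/-!
# An extremely closed subgroup of order three with fused elements

When `H = ⟨a⟩` has order three and `a` is conjugate to `a⁻¹`, each coset `c · kern H g` consists of
conjugates of `c`, and positive definiteness on the group ring of the core improves the lower bound
for the commutator sum.
-/

set_option autoImplicit false
set_option linter.style.haveILetI false
set_option linter.unusedSectionVars false
open Cfsg
open scoped ComplexConjugate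

universe u

namespace CfsgLib.ExtClosed

variable {G : Type u} [Group G] [Fintype G] {p : ℕ} [Fact p.Prime] {H : Subgroup G}

theorem pow_three {h : G} (h3 : Nat.card H = 3) (hh : h ∈ H) : h * h * h = 1 := by
  have h1 : (⟨h, hh⟩ : H) ^ Nat.card H = 1 := pow_card_eq_one'
  rw [h3] at h1
  simpa [pow_succ] using congrArg Subtype.val h1

theorem sharp_three [DecidableEq G] (h3 : Nat.card H = 3) {a : G} (ha : a ∈ sharp H) :
    sharp H = {a, a⁻¹} ∧ a ≠ a⁻¹ := by
  obtain ⟨haH, ha1⟩ := mem_sharp.1 ha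
  have hne : a ≠ a⁻¹ := fun e => ha1 (by
    have h1 : a * a = 1 := by nth_rewrite 2 [e]; exact mul_inv_cancel a
    have h2 := pow_three h3 haH
    rwa [h1, one_mul] at h2)
  refine ⟨(Finset.eq_of_subset_of_card_le ?_ ?_).symm, hne⟩
  · intro x hx
    simp only [Finset.mem_insert, Finset.mem_singleton] at hx
    rcases hx with rfl | rfl
    · exact ha
    · exact mem_sharp.2 ⟨inv_mem haH, inv_ne_one.2 ha1⟩
  · have := card_sharp (H := H)
    rw [h3] at this
    rw [Finset.card_pair hne]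
    omega

theorem val_coset_three (hE : EC p H) (h3 : Nat.card H = 3) (χ : IrrCharacter G) {c y g : G}
    (hc : c ∈ sharp H) (hy : y ∈ kern p H g) : (χ : G → ℂ) (c * y) = (χ : G → ℂ) c := by
  classical
  obtain ⟨k, -, x, hx, hcx, e⟩ := hE.exists_conj_split (mem_sharp.1 hc).1 hy
  have hx1 : x = 1 := hE.kern_centralizer hx fun h hh => by
    by_cases h1 : h = 1
    · rw [h1]; exact Commute.one_right x
    have := mem_sharp.2 ⟨hh, h1⟩
    rw [(sharp_three h3 hc).1, Finset.mem_insert, Finset.mem_singleton] at this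
    rcases this with rfl | rfl
    · exact hcx.symm
    · exact hcx.symm.inv_right
  rw [← CfsgLib.Char.IsIrrCharacter.isClassFunction χ.2 (c * y) k, e, hx1, mul_one]

theorem asum_three (h3 : Nat.card H = 3) {a : G} (ha : a ∈ sharp H) (hc : IsConj a a⁻¹)
    (χ : IrrCharacter G) : ((χ : G → ℂ) a).re = (asum H χ).re / 2 := by
  classical
  obtain ⟨hs, hne⟩ := sharp_three h3 ha
  rw [asum, hs, Finset.sum_pair hne,
    ← CfsgLib.Char.IsClassFunction.eq_of_isConj
      (CfsgLib.Char.IsIrrCharacter.isClassFunction χ.2) hc, Complex.add_re]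
  ring

/-- The character sum over the core is at least `|O| χ(a)`. -/
theorem kern_sum_ge (hE : EC p H) (h3 : Nat.card H = 3) (χ : IrrCharacter G) {a : G}
    (ha : a ∈ sharp H) (g : G) [Fintype (kern p H g)] :
    (Fintype.card (kern p H g) : ℝ) * ((χ : G → ℂ) a).re ≤
      (∑ o : kern p H g, (χ : G → ℂ) o).re := by
  obtain ⟨haH, ha1⟩ := mem_sharp.1 ha
  set S := ∑ o : (kern p H g), (χ : G → ℂ) o with hS
  have hi : a⁻¹ ∈ sharp H := mem_sharp.2 ⟨inv_mem haH, inv_ne_one.2 ha1⟩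
  have hm1 : ∀ o o' : (kern p H g), (χ : G → ℂ) ((o : G)⁻¹ * (a * (o' : G))) = (χ : G → ℂ) a := by
    intro o o'
    rw [show (o : G)⁻¹ * (a * (o' : G)) = a * (a⁻¹ * (o : G)⁻¹ * a⁻¹⁻¹ * (o' : G)) by group]
    exact val_coset_three hE h3 χ ha (mul_mem (kern_conj (mem_pair (inv_mem haH)) (inv_mem o.2)) o'.2)
  have hm2 : ∀ o o' : (kern p H g), (χ : G → ℂ) ((a * (o : G))⁻¹ * (o' : G)) = (χ : G → ℂ) a⁻¹ := by
    intro o o'
    rw [show (a * (o : G))⁻¹ * (o' : G) = a⁻¹ * (a * (o : G)⁻¹ * a⁻¹ * (o' : G)) by group]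
    exact val_coset_three hE h3 χ hi (mul_mem (kern_conj (mem_pair haH) (inv_mem o.2)) o'.2)
  have hm3 : ∀ o : (kern p H g), ∑ o' : (kern p H g), (χ : G → ℂ) ((o : G)⁻¹ * (o' : G)) = S := fun o =>
    Fintype.sum_equiv (Equiv.mulLeft o⁻¹) _ _ fun o' => by simp
  have h := posdef χ (ι := (kern p H g) ⊕ (kern p H g)) (Sum.elim (fun _ => 1) fun _ => -1)
    (Sum.elim (fun o => (o : G)) fun o => a * (o : G))
  simp only [Fintype.sum_sum_type, Sum.elim_inl, Sum.elim_inr, map_one, map_neg, one_mul, neg_mul,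
    mul_neg, hm1, hm2, show ∀ o o' : (kern p H g), (a * (o : G))⁻¹ * (a * (o' : G)) = (o : G)⁻¹ * o'
      from fun o o' => by group, hm3, Finset.sum_neg_distrib, Finset.sum_const, Finset.card_univ,
    nsmul_eq_mul, Finset.sum_add_distrib] at h
  rw [CfsgLib.Char.IsIrrCharacter.apply_inv χ.2] at h
  simp only [Complex.add_re, Complex.neg_re, Complex.mul_re, Complex.mul_im,
    Complex.natCast_re, Complex.natCast_im, Complex.conj_re, zero_mul, sub_zero] at h
  have hpos : (0 : ℝ) < Fintype.card (kern p H g) := by exact_mod_cast Fintype.card_pos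
  nlinarith

/-- The improved lower bound for the commutator sum. -/
theorem rsum_ge_three (hE : EC p H) (h3 : Nat.card H = 3) {a : G} (ha : a ∈ sharp H)
    (hc : IsConj a a⁻¹) (χ : IrrCharacter G) {d : ℕ} (hd : (χ : G → ℂ) 1 = d) (g : G) :
    3 / 2 * (asum H χ).re + (-1) * d ≤ (rsum hE χ g).re := by
  classical
  haveI := Fintype.ofFinite (kern p H g)
  obtain ⟨haH, ha1⟩ := mem_sharp.1 ha
  obtain ⟨hs, hne⟩ := sharp_three h3 ha
  have hcl := CfsgLib.Char.IsIrrCharacter.isClassFunction χ.2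
  have hinv := CfsgLib.Char.IsIrrCharacter.apply_inv χ.2
  set k := hE.sigma g with hk
  have hkO : k ∈ kern p H g := hE.sigma_mem g
  set O := kern p H g with hO
  set S := ∑ o : O, (χ : G → ℂ) o with hS
  set b := k * a * k⁻¹ with hb
  set g₂ := a⁻¹ * b with hg₂
  set g₃ := a * b⁻¹ with hg₃
  set t := (χ : G → ℂ) g₂ with ht
  have ha3 := pow_three h3 haH
  have hb3 : b * b * b = 1 := by
    rw [hb, show k * a * k⁻¹ * (k * a * k⁻¹) * (k * a * k⁻¹) = k * (a * a * a) * k⁻¹ by group, ha3]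
    group
  have hg₂O : g₂ ∈ O := by
    rw [hg₂, hb, show a⁻¹ * (k * a * k⁻¹) = a⁻¹ * k * a⁻¹⁻¹ * k⁻¹ by group]
    exact commutator_mem_kern (inv_mem haH) hkO
  have hg₃O : g₃ ∈ O := by
    rw [hg₃, hb, show a * (k * a * k⁻¹)⁻¹ = a * k * a⁻¹ * k⁻¹ by group]
    exact commutator_mem_kern haH hkO
  have v3 : (χ : G → ℂ) g₃⁻¹ = t := by
    rw [ht, ← hcl g₂ a, hg₂, hg₃]
    group
  have v3' : (χ : G → ℂ) g₃ = conj t := by rw [← v3, hinv, Complex.conj_conj]
  have v23 : (χ : G → ℂ) (g₂⁻¹ * g₃) = t := by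
    rw [ht, ← hcl (g₂⁻¹ * g₃) b, hg₂, hg₃]
    have e1 : b⁻¹ * b⁻¹ = b := by
      rw [← mul_inv_rev, inv_eq_iff_mul_eq_one, hb3]
    have e2 : a * a = a⁻¹ := eq_inv_of_mul_eq_one_left ha3
    rw [show b * ((a⁻¹ * b)⁻¹ * (a * b⁻¹)) * b⁻¹ = a * a * (b⁻¹ * b⁻¹) by group, e1, e2]
  have v32 : (χ : G → ℂ) (g₃⁻¹ * g₂) = conj t := by
    rw [← v23, ← hinv]; group
  have v2' : (χ : G → ℂ) g₂⁻¹ = conj t := hinv g₂
  have hrs : (rsum hE χ g).re = 2 * t.re := by
    rw [rsum, hs, Finset.sum_pair hne, ← hk,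
      show a * k * a⁻¹ * k⁻¹ = g₃ by rw [hg₃, hb]; group,
      show a⁻¹ * k * a⁻¹⁻¹ * k⁻¹ = g₂ by rw [hg₂, hb]; group, v3', ← ht, Complex.add_re,
      Complex.conj_re]
    ring
  set x : Fin 3 → G := ![1, g₂, g₃] with hx
  have hxO : ∀ i, x i ∈ O := by
    intro i
    fin_cases i <;> simp [hx, hg₂O, hg₃O]
  have hm1 : ∀ i, ∑ o : O, (χ : G → ℂ) ((x i)⁻¹ * (o : G)) = S := fun i =>
    Fintype.sum_equiv (Equiv.mulLeft (⟨x i, hxO i⟩⁻¹ : O)) _ _ fun o => by simp
  have hm2 : ∀ i, ∑ o : O, (χ : G → ℂ) ((o : G)⁻¹ * x i) = S := fun i =>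
    Fintype.sum_equiv ((Equiv.inv O).trans (Equiv.mulRight (⟨x i, hxO i⟩ : O))) _ _ fun o => by
      simp
  have hm3 : ∀ o : O, ∑ o' : O, (χ : G → ℂ) ((o : G)⁻¹ * (o' : G)) = S := fun o =>
    Fintype.sum_equiv (Equiv.mulLeft o⁻¹) _ _ fun o' => by simp
  have hxx : ∑ i, ∑ j, (χ : G → ℂ) ((x i)⁻¹ * x j) = 3 * (d : ℂ) + 3 * t + 3 * conj t := by
    simp only [hx, Fin.sum_univ_three, Matrix.cons_val_zero, Matrix.cons_val_one, Matrix.cons_val,
      inv_one, one_mul, mul_one, inv_mul_cancel, v3, v3', v23, v32, v2', hd, ← ht]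
    ring
  have h := posdef χ (ι := Fin 3 ⊕ O)
    (Sum.elim (fun _ => (Fintype.card O : ℂ)) fun _ => -3) (Sum.elim x fun o => (o : G))
  simp only [Fintype.sum_sum_type, Sum.elim_inl, Sum.elim_inr, map_natCast, map_neg, map_ofNat,
    Finset.sum_add_distrib, ← Finset.mul_sum] at h
  rw [hxx] at h
  simp only [hm1, hm3] at h
  rw [Finset.sum_comm (s := (Finset.univ : Finset O)) (t := (Finset.univ : Finset (Fin 3)))] at h
  simp only [hm2, Finset.sum_const, Finset.card_univ, Fintype.card_fin, nsmul_eq_mul] at h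
  simp only [Complex.add_re, Complex.neg_re, Complex.neg_im, Complex.mul_re, Complex.mul_im,
    Complex.natCast_re, Complex.natCast_im, Complex.conj_re, Complex.conj_im, Complex.add_im,
    Complex.re_ofNat, Complex.im_ofNat, zero_mul, mul_zero, sub_zero, neg_zero,
    add_zero, zero_add, Nat.cast_ofNat] at h
  have hk1 := kern_sum_ge hE h3 χ ha g
  rw [asum_three h3 ha hc χ] at hk1
  have hpos : (0 : ℝ) < Fintype.card O := by exact_mod_cast Fintype.card_pos
  have h9 : 0 ≤ (Fintype.card O : ℝ) * ((Fintype.card O : ℝ) * (3 * d + 6 * t.re) - 9 * S.re) := by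
    nlinarith
  have h10 := nonneg_of_mul_nonneg_right h9 hpos
  rw [hrs]
  nlinarith

end CfsgLib.ExtClosed
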